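import Cfsg.Agent.CoOneFive.Codes
import Cfsg.Agent.CoOneType.Frame
import Cfsg.Agent.Classical.SmallSimple

/-!
The isometries fixing an elliptic four-space pointwise.
-/

set_option autoImplicit false
set_option maxRecDepth 100000
set_option maxHeartbeats 1000000

open Cfsg.Agent.ThreeTrans.OrthCohom Cfsg.Agent.Classical.Quad QuadraticMap Module

namespace Cfsg.Agent.CoOneFive

open Cfsg.Agent.CoOneType

/-- The code map of an isometry. -/
def IsCode (g : O) (f : ℕ → ℕ) : Prop := ∀ v, v < 256 → f v < 256 ∧ g.1 (dc v) = dc (f v)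

theorem IsCode.one : IsCode (1 : O) id := fun v hv => ⟨hv, by rw [oG_one_apply]; rfl⟩

theorem IsCode.mul {g h : O} {f e : ℕ → ℕ} (hg : IsCode g f) (hh : IsCode h e) : IsCode (g * h) (f ∘ e) :=
  fun v hv => ⟨(hg _ (hh v hv).1).1, by rw [oG_mul_apply, (hh v hv).2, (hg _ (hh v hv).1).2]; rfl⟩

theorem IsCode.pow {g : O} {f : ℕ → ℕ} (hg : IsCode g f) : ∀ n : ℕ, IsCode (g ^ n) (f^[n])
  | 0 => by rw [pow_zero]; exact IsCode.one
  | n + 1 => by rw [pow_succ, Function.iterate_succ]; exact (IsCode.pow hg n).mul hg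

theorem IsCode.congr {g : O} {f e : ℕ → ℕ} (hg : IsCode g f) (h : ∀ v, v < 256 → f v = e v) : IsCode g e :=
  fun v hv => h v hv ▸ hg v hv

theorem dsign_mulO (g h : O) : dsign (g * h) = dsign g * dsign h :=
  dsign_mul nondegP4 (Or.inr (by simp)) g h

theorem dsign_powO {g : O} (hg : dsign g = 1) : ∀ n : ℕ, dsign (g ^ n) = 1
  | 0 => by rw [pow_zero, dsign_one]
  | n + 1 => by rw [pow_succ, dsign_mulO, dsign_powO hg n, hg, one_mul]

theorem dsign_invO {g : O} (hg : dsign g = 1) : dsign g⁻¹ = 1 := by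
  have h := dsign_mulO g⁻¹ g
  rw [inv_mul_cancel, dsign_one, hg, mul_one] at h
  exact h.symm

theorem movL_lt (k : Bool) {v : ℕ} (h : v ∈ movL k) : v < 256 :=
  (by decide : ∀ k : Bool, ∀ v ∈ movL k, v < 256) k v h

theorem mem_bool (k : Bool) : k ∈ [false, true] := by cases k <;> simp

theorem gen_exist (k : Bool) (i : Fin 4) : ∃ g : O, dsign g = 1 ∧ IsCode g (genT k i) := by
  obtain ⟨R, hRdef⟩ : ∃ R : ℕ → ℕ, R = fun j => (rootsOf k).getD j 0 := ⟨_, rfl⟩
  have hR : ∀ j < 10, R j < 256 ∧ qn (R j) = true := by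
    subst hRdef
    exact (by decide +kernel : ∀ k : Bool, ∀ j < 10,
      (rootsOf k).getD j 0 < 256 ∧ qn ((rootsOf k).getD j 0) = true) k
  have tab : ∀ v, v < 256 → genF k i v = genT k i v ∧ genT k i v < 256 := by
    intro v hv
    have t := List.all_eq_true.1 (List.all_eq_true.1 gen_tables k (mem_bool k)) v (List.mem_range.2 hv)
    have t' := List.all_eq_true.1 t i (List.mem_finRange i)
    rw [Bool.and_eq_true, beq_iff_eq, Nat.blt_eq] at t'
    exact t'
  have mk : ∀ a < 10, ∀ b < 10, ∃ g : O, dsign g = 1 ∧ IsCode g (g2n (R a) (R b)) := by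
    intro a ha b hb
    obtain ⟨g, h1, h2⟩ := exists_rrn (hR a ha).1 (hR b hb).1 (hR a ha).2 (hR b hb).2
    exact ⟨g, h1, fun v hv => ⟨g2n_lt (hR a ha).1 (hR b hb).1 hv, h2 v hv⟩⟩
  subst hRdef
  fin_cases i
  · obtain ⟨g, g1, g2⟩ := mk 0 (by norm_num) 1 (by norm_num)
    obtain ⟨h, h1, h2⟩ := mk 2 (by norm_num) 3 (by norm_num)
    exact ⟨g * h, by rw [dsign_mulO, g1, h1, one_mul], (g2.mul h2).congr fun v hv => (tab v hv).1⟩
  · obtain ⟨g, g1, g2⟩ := mk 4 (by norm_num) 5 (by norm_num)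
    exact ⟨g, g1, g2.congr fun v hv => (tab v hv).1⟩
  · obtain ⟨g, g1, g2⟩ := mk 6 (by norm_num) 7 (by norm_num)
    exact ⟨g, g1, g2.congr fun v hv => (tab v hv).1⟩
  · obtain ⟨g, g1, g2⟩ := mk 8 (by norm_num) 9 (by norm_num)
    exact ⟨g, g1, g2.congr fun v hv => (tab v hv).1⟩

/-- The generators of the two groups. -/
noncomputable def Gen (k : Bool) (i : Fin 4) : O := (gen_exist k i).choose

theorem Gen_spec (k : Bool) (i : Fin 4) : dsign (Gen k i) = 1 ∧ IsCode (Gen k i) (genT k i) :=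
  (gen_exist k i).choose_spec

/-- The element belonging to a word. -/
noncomputable def Wel (k : Bool) (w : Wd) : O :=
  Gen k 0 ^ w.1.val * (Gen k 1 ^ w.2.1.val * (Gen k 2 ^ w.2.2.1.val * Gen k 3 ^ w.2.2.2.val))

theorem Wel_code (k : Bool) (w : Wd) : IsCode (Wel k w) (wd k w) :=
  ((Gen_spec k 0).2.pow _).mul (((Gen_spec k 1).2.pow _).mul (((Gen_spec k 2).2.pow _).mul ((Gen_spec k 3).2.pow _)))

theorem Wel_even (k : Bool) (w : Wd) : dsign (Wel k w) = 1 := by
  simp only [Wel, dsign_mulO, dsign_powO (Gen_spec k _).1, one_mul]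

/-- The code of an image. -/
noncomputable def im (g : O) (k : ℕ) : ℕ := (cd (g.1 (dc k))).val

theorem im_lt (g : O) (k : ℕ) : im g k < 256 := (cd _).isLt

theorem im_spec (g : O) (k : ℕ) : g.1 (dc k) = dc (im g k) := (dc_cd _).symm

theorem im_q (g : O) {k : ℕ} (hk : k < 256) : qn (im g k) = qn k :=
  bz_inj _ _ (by rw [← q_dc (im_lt g k), ← q_dc hk, ← im_spec, g.2])

theorem im_B (g : O) {k l : ℕ} (hk : k < 256) (hl : l < 256) : Bn (im g k) (im g l) = Bn k l :=
  bz_inj _ _ (by rw [← Bp_dc (im_lt g k) (im_lt g l), ← Bp_dc hk hl, ← im_spec, ← im_spec, polar_g])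

/-- An isometry is determined by the images of the two bases. -/
theorem ext_movL {g h : O} (e : ∀ k : Bool, ∀ v ∈ movL k, g.1 (dc v) = h.1 (dc v)) : g = h := by
  refine ext_oG fun x => ext_basis (f := (g.1 : V →ₗ[ZMod 2] V)) (g := (h.1 : V →ₗ[ZMod 2] V)) ?_ x
  have he : ∀ v ∈ ([1, 16, 34, 100, 8, 128, 38, 68] : List ℕ), g.1 (dc v) = h.1 (dc v) := by
    intro v hv
    rcases List.mem_append.1 (show v ∈ movL false ++ movL true from hv) with h' | h'
    exacts [e false v h', e true v h']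
  intro k hk
  simp only [List.mem_cons, List.not_mem_nil, or_false] at hk
  show g.1 (dc k) = h.1 (dc k)
  have x2 : dc 2 = dc 34 + dc 32 := by rw [← dc_xor]; rfl
  have x4 : dc 4 = dc 34 + dc 38 := by rw [← dc_xor]; rfl
  have x64 : dc 64 = dc 68 + (dc 34 + dc 38) := by rw [← dc_xor, ← dc_xor]; rfl
  have x32 : dc 32 = dc 100 + dc 68 := by rw [← dc_xor]; rfl
  have e32 : g.1 (dc 32) = h.1 (dc 32) := by
    rw [x32, map_add, map_add, he 100 (by simp), he 68 (by simp)]
  rcases hk with rfl | rfl | rfl | rfl | rfl | rfl | rfl | rfl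
  · exact he 1 (by simp)
  · rw [x2, map_add, map_add, he 34 (by simp), e32]
  · rw [x4, map_add, map_add, he 34 (by simp), he 38 (by simp)]
  · exact he 8 (by simp)
  · exact he 16 (by simp)
  · exact e32
  · rw [x64, map_add, map_add, map_add, map_add, he 68 (by simp), he 34 (by simp), he 38 (by simp)]
  · exact he 128 (by simp)

theorem IsCode.eq {g h : O} {f e : ℕ → ℕ} (hg : IsCode g f) (hh : IsCode h e)
    (hfe : ∀ k : Bool, ∀ v ∈ movL k, f v = e v) : g = h :=
  ext_movL fun k v hv => by rw [(hg v (movL_lt k hv)).2, (hh v (movL_lt k hv)).2, hfe k v hv]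

/-- The even isometries fixing one of the two subspaces pointwise. -/
def AG (k : Bool) : Subgroup O where
  carrier := {g | dsign g = 1 ∧ ∀ v ∈ fixL k, g.1 (dc v) = dc v}
  one_mem' := ⟨dsign_one, fun v _ => oG_one_apply _⟩
  mul_mem' := fun {a b} ha hb => ⟨by rw [dsign_mulO, ha.1, hb.1, one_mul],
    fun v hv => by rw [oG_mul_apply, hb.2 v hv, ha.2 v hv]⟩
  inv_mem' := fun {a} ha => ⟨dsign_invO ha.1, fun v hv => by
    rw [Set.mem_ofPred_eq] at ha
    conv_lhs => rw [← ha.2 v hv]
    exact oG_inv_apply a _⟩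

theorem mem_AG {k : Bool} {g : O} : g ∈ AG k ↔ dsign g = 1 ∧ ∀ v ∈ fixL k, g.1 (dc v) = dc v := Iff.rfl

theorem wd_fix (k : Bool) (w : Wd) {b : ℕ} (hb : b ∈ fixL k) : wd k w b = b := by
  have t : ∀ i, genT k i b = b := fun i => beq_iff_eq.1
    (List.all_eq_true.1 (List.all_eq_true.1 (List.all_eq_true.1 gen_fix k (mem_bool k)) i (List.mem_finRange i)) b hb)
  have it : ∀ (i : Fin 4) (n : ℕ), (genT k i)^[n] b = b := fun i n => Function.iterate_fixed (t i) n
  simp only [wd, it]

theorem Wel_mem (k : Bool) (w : Wd) : Wel k w ∈ AG k :=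
  ⟨Wel_even k w, fun v hv => by
    rw [((Wel_code k w) v (movL_lt _ hv)).2, wd_fix k w hv]⟩

theorem mem_spanL (k : Bool) {v : ℕ} (hv : v < 256) (h : ∀ b ∈ fixL k, Bn v b = false) : v ∈ spanL k := by
  have t := beq_iff_eq.1 (List.all_eq_true.1 (List.all_eq_true.1 perp_span k (mem_bool k)) v (List.mem_range.2 hv))
  have e : ((fixL k).all fun b => !(Bn v b)) = true := List.all_eq_true.2 fun b hb => by simp [h b hb]
  rw [e] at t
  exact List.contains_iff_mem.1 t.symm

theorem perp_spanL (k : Bool) {v : ℕ} (hv : v ∈ spanL k) : ∀ b ∈ fixL k, Bn v b = false := by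
  intro b hb
  have t := beq_iff_eq.1 (List.all_eq_true.1 (List.all_eq_true.1 perp_span k (mem_bool k)) v
    (List.mem_range.2 (span_lt k v hv)))
  rw [List.contains_iff_mem.2 hv] at t
  simpa using List.all_eq_true.1 t b hb

/-- Every element is given by a word. -/
theorem exists_word (k : Bool) {g : O} (hg : g ∈ AG k) : ∃ w, g = Wel k w := by
  obtain ⟨hd, hfix⟩ := hg
  have hfx : ∀ v ∈ fixL k, im g v = v := fun v hv => dc_inj (im_lt g v) (movL_lt _ hv) (by rw [← im_spec, hfix v hv])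
  have hin : ∀ v ∈ movL k, im g v ∈ spanL k := fun v hv => mem_spanL k (im_lt g v) fun b hb => by
    conv_lhs => rw [← hfx b hb]
    rw [im_B g (movL_lt k hv) (movL_lt _ hb)]
    exact (by decide : ∀ k : Bool, ∀ v ∈ movL k, ∀ b ∈ fixL k, Bn v b = false) k v hv b hb
  obtain ⟨a, b, c, d, hL, hmem⟩ : ∃ a b c d, movL k = [a, b, c, d] ∧ (qn a = false ∧ qn b = false ∧
      qn c = true ∧ qn d = true ∧ Bn a b = true ∧ Bn a c = false ∧ Bn b c = false ∧ Bn a d = false ∧
      Bn b d = false ∧ Bn c d = true ∧ a < 256 ∧ b < 256 ∧ c < 256 ∧ d < 256) := by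
    cases k
    · exact ⟨1, 16, 34, 100, rfl, by decide⟩
    · exact ⟨8, 128, 38, 68, rfl, by decide⟩
  obtain ⟨qa, qb, qc, qd, ab, ac, bc, ad, bd, cd', la, lb, lc, ld⟩ := hmem
  have t0 := List.all_eq_true.1 (List.all_eq_true.1 tup_complete k (mem_bool k)) _ (hin a (by simp [hL]))
  simp only [im_q g la, qa, Bool.false_or] at t0
  have t1 := List.all_eq_true.1 t0 _ (hin b (by simp [hL]))
  simp only [im_q g lb, qb, im_B g la lb, ab, Bool.not_false, Bool.and_self, Bool.not_true,
    Bool.false_or] at t1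
  have t2 := List.all_eq_true.1 t1 _ (hin c (by simp [hL]))
  simp only [im_q g lc, qc, im_B g la lc, ac, im_B g lb lc, bc, Bool.not_false, Bool.and_self, Bool.not_true,
    Bool.false_or] at t2
  have t3 := List.all_eq_true.1 t2 _ (hin d (by simp [hL]))
  simp only [im_q g ld, qd, im_B g la ld, ad, im_B g lb ld, bd, im_B g lc ld, cd', Bool.not_false, Bool.and_self,
    Bool.not_true, Bool.false_or, Bool.or_eq_true, List.contains_iff_mem] at t3
  have htup : tup k (im g) = [im g a, im g b, im g c, im g d] := by rw [tup, hL]; rfl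
  rw [← htup] at t3
  rcases t3 with t3 | t3
  · obtain ⟨w, -, hw⟩ := List.mem_map.1 t3
    refine ⟨w, ext_movL fun k' v hv => ?_⟩
    rcases eq_or_ne k' k with rfl | hne
    · rw [im_spec, ((Wel_code _ w) v (movL_lt _ hv)).2]
      exact congrArg dc ((List.map_inj_left.1 hw) v hv).symm
    · have hv' : v ∈ fixL k := by rw [Bool.eq_not_of_ne hne] at hv; exact hv
      rw [hfix v hv', (Wel_mem k w).2 v hv']
  · exfalso
    obtain ⟨w, -, hw⟩ := List.mem_map.1 t3
    have hr : oddR k < 256 ∧ qn (oddR k) = true ∧ ∀ v ∈ fixL k, Bn v (oddR k) = false :=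
      (by decide : ∀ k : Bool, oddR k < 256 ∧ qn (oddR k) = true ∧ ∀ v ∈ fixL k, Bn v (oddR k) = false) k
    have hq : qP 4 (dc (oddR k)) = 1 := by rw [q_dc hr.1, hr.2.1]; rfl
    have hne : qP 4 (dc (oddR k)) ≠ 0 := by rw [hq]; exact one_ne_zero
    have e : g = Wel k w * rO hne := by
      refine ext_movL fun k' v hv => ?_
      have hv2 : v < 256 := movL_lt _ hv
      rw [oG_mul_apply, refl_apply hq, step_dc hr.1 hv2]
      rcases eq_or_ne k' k with rfl | hne'
      · rw [im_spec, ((Wel_code _ w) _ (by split_ifs; exacts [xor_lt hv2 hr.1, hv2])).2]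
        exact congrArg dc ((List.map_inj_left.1 hw) v hv).symm
      · have hv' : v ∈ fixL k := by rw [Bool.eq_not_of_ne hne'] at hv; exact hv
        rw [hr.2.2 v hv', if_neg (by simp), hfix v hv', (Wel_mem k w).2 v hv']
    have h1 : dsign (Wel k w * rO hne) = -1 := by
      rw [dsign_mul_rO nondegP4, Wel_even]
    rw [← e, hd] at h1
    exact absurd h1 (by decide)

theorem Wel_inj (k : Bool) {w w' : Wd} (h : Wel k w = Wel k w') : w = w' := by
  refine List.inj_on_of_nodup_map (tup_inj k) (mem_wdList w) (mem_wdList w') (List.map_inj_left.2 fun v hv => ?_)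
  refine dc_inj ((Wel_code k w) v (movL_lt k hv)).1 ((Wel_code k w') v (movL_lt k hv)).1 ?_
  rw [← ((Wel_code k w) v (movL_lt k hv)).2, ← ((Wel_code k w') v (movL_lt k hv)).2, h]

theorem card_AG (k : Bool) : Nat.card (AG k) = 60 := by
  have hb : Function.Bijective (fun w => (⟨Wel k w, Wel_mem k w⟩ : AG k)) :=
    ⟨fun a b h => Wel_inj k (congrArg Subtype.val h), fun g => by
      obtain ⟨w, hw⟩ := exists_word k g.2
      exact ⟨w, Subtype.ext hw.symm⟩⟩
  rw [← Nat.card_congr (Equiv.ofBijective _ hb)]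
  simp

/-- A singular point of one of the two subspaces. -/
abbrev Pt (k : Bool) : Type := {v : V // ∃ i ∈ singL k, v = dc i}

theorem card_Pt (k : Bool) : Nat.card (Pt k) = 5 := by
  have hlt : ∀ i ∈ singL k, i < 256 := (by decide : ∀ k : Bool, ∀ i ∈ singL k, i < 256) k
  have hb : Function.Bijective (fun i : {i // i ∈ (singL k).toFinset} =>
      (⟨dc i.1, i.1, List.mem_toFinset.1 i.2, rfl⟩ : Pt k)) :=
    ⟨fun a b h => Subtype.ext (dc_inj (hlt _ (List.mem_toFinset.1 a.2)) (hlt _ (List.mem_toFinset.1 b.2))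
      (congrArg Subtype.val h)), fun ⟨v, i, hi, e⟩ => ⟨⟨i, List.mem_toFinset.2 hi⟩, Subtype.ext e.symm⟩⟩
  rw [← Nat.card_congr (Equiv.ofBijective _ hb), Nat.card_eq_fintype_card, Fintype.card_coe]
  cases k <;> rfl

theorem equiv_alt (k : Bool) : Nonempty (↥(AG k) ≃* ↥(alternatingGroup (Fin 5))) := by
  classical
  have hlt : ∀ i ∈ singL k, i < 256 := (by decide : ∀ k : Bool, ∀ i ∈ singL k, i < 256) k
  have hmap : ∀ (g : AG k) (p : Pt k), ∃ i ∈ singL k, g.1.1 p.1 = dc i := by
    rintro ⟨g, hg⟩ ⟨_, i, hi, rfl⟩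
    obtain ⟨w, rfl⟩ := exists_word k hg
    refine ⟨wd k w i, List.contains_iff_mem.1 (List.all_eq_true.1 (List.all_eq_true.1 (List.all_eq_true.1
      words_perm k (mem_bool k)) w (mem_wdList w)) i hi), ?_⟩
    exact ((Wel_code k w) i (hlt i hi)).2
  let act : AG k → Pt k → Pt k := fun g p => ⟨g.1.1 p.1, hmap g p⟩
  let e5 : Pt k ≃ Fin 5 := (Finite.equivFinOfCardEq (card_Pt k))
  let φ : AG k →* Equiv.Perm (Fin 5) :=
    (Equiv.permCongrHom e5).toMonoidHom.comp
      { toFun := fun g =>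
          { toFun := act g
            invFun := act g⁻¹
            left_inv := fun p => Subtype.ext (oG_inv_apply g.1 p.1)
            right_inv := fun p => Subtype.ext (oG_apply_inv g.1 p.1) }
        map_one' := Equiv.ext fun p => rfl
        map_mul' := fun a b => Equiv.ext fun p => rfl }
  have hinj : Function.Injective φ := by
    refine (injective_iff_map_eq_one φ).2 fun g h => ?_
    simp only [φ, MonoidHom.comp_apply, MulEquiv.coe_toMonoidHom, MulEquiv.map_eq_one_iff] at h
    obtain ⟨w, hw⟩ := exists_word k g.2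
    have hfix : ∀ i ∈ singL k, wd k w i = i := fun i hi => by
      have e := congrArg Subtype.val (Equiv.congr_fun h ⟨dc i, i, hi, rfl⟩)
      refine dc_inj ((Wel_code k w) i (hlt i hi)).1 (hlt i hi) ?_
      rw [← ((Wel_code k w) i (hlt i hi)).2, ← hw]
      exact e
    have t := List.all_eq_true.1 (List.all_eq_true.1 words_faithful k (mem_bool k)) w (mem_wdList w)
    have hall : ((singL k).all fun p => wd k w p == p) = true :=
      List.all_eq_true.2 fun i hi => beq_iff_eq.2 (hfix i hi)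
    rw [hall, Bool.not_true, Bool.false_or, beq_iff_eq] at t
    refine Subtype.ext (ext_movL fun k' v hv => ?_)
    show g.1.1 (dc v) = (1 : O).1 (dc v)
    rw [oG_one_apply]
    rcases eq_or_ne k' k with rfl | hne
    · rw [hw, ((Wel_code _ w) v (movL_lt _ hv)).2]
      refine congrArg dc ?_
      exact (List.map_inj_left.1 (t.trans (List.map_id _).symm) v hv)
    · exact g.2.2 v (by rw [Bool.eq_not_of_ne hne] at hv; exact hv)
  have hrange : φ.range = alternatingGroup (Fin 5) := by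
    refine Equiv.Perm.eq_alternatingGroup_of_index_eq_two ?_
    have h := φ.range.card_mul_index
    rw [← Nat.card_congr (MonoidHom.ofInjective hinj).toEquiv, card_AG, Nat.card_perm, Nat.card_fin] at h
    norm_num at h
    omega
  exact ⟨(MonoidHom.ofInjective hinj).trans (MulEquiv.subgroupCongr hrange)⟩

theorem isSimple_AG (k : Bool) : IsSimpleGroup ↥(AG k) := by
  obtain ⟨e⟩ := equiv_alt k
  haveI := alternatingGroup.isSimpleGroup_five
  exact e.isSimpleGroup

/-- A subgroup of a group of type `A₅` with two subgroups of order five is everything. -/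
theorem eq_top_of_fives {H : Type*} [Group H] [IsSimpleGroup H] (hH : Nat.card H = 60) {K : Subgroup H}
    {x y : H} (hx : x ∈ K) (hy : y ∈ K) (x5 : orderOf x = 5) (y5 : orderOf y = 5)
    (hxy : y ∉ Subgroup.zpowers x) : K = ⊤ := by
  classical
  haveI : Finite H := Nat.finite_of_card_ne_zero (by omega)
  haveI : Fact (Nat.Prime 5) := ⟨by norm_num⟩
  have hd : Subgroup.zpowers x ⊓ Subgroup.zpowers y = ⊥ := by
    have hdvd := Subgroup.card_dvd_of_le (inf_le_right : Subgroup.zpowers x ⊓ Subgroup.zpowers y ≤ _)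
    rw [Nat.card_zpowers, y5] at hdvd
    rcases (Nat.dvd_prime (by norm_num)).1 hdvd with h | h
    · exact Subgroup.card_eq_one.1 h
    · refine absurd ?_ hxy
      have e := Subgroup.eq_of_le_of_card_ge (inf_le_right : Subgroup.zpowers x ⊓ Subgroup.zpowers y ≤ _)
        (by rw [h, Nat.card_zpowers, y5])
      exact (e.ge (Subgroup.mem_zpowers y)).1
  have h25 : 25 ≤ Nat.card K := by
    have hinj : Function.Injective (fun p : Subgroup.zpowers x × Subgroup.zpowers y =>
        (⟨p.1.1 * p.2.1, mul_mem (Subgroup.zpowers_le.2 hx p.1.2) (Subgroup.zpowers_le.2 hy p.2.2)⟩ : K)) := by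
      rintro ⟨a, b⟩ ⟨a', b'⟩ e
      exact Subgroup.mul_injective_of_disjoint (disjoint_iff.2 hd) (congrArg Subtype.val e)
    have := Nat.card_le_card_of_injective _ hinj
    rwa [Nat.card_prod, Nat.card_zpowers, Nat.card_zpowers, x5, y5] at this
  have hdiv := K.card_mul_index
  rw [hH] at hdiv
  have h5 : 5 ∣ Nat.card K := by
    have := Subgroup.card_dvd_of_le (Subgroup.zpowers_le.2 hx)
    rwa [Nat.card_zpowers, x5] at this
  have hi : K.index ≤ 2 := by
    by_contra hc
    nlinarith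
  have hi0 : K.index ≠ 0 := Subgroup.index_ne_zero_of_finite
  obtain h1 | h2 : K.index = 1 ∨ K.index = 2 := by omega
  · exact Subgroup.index_eq_one.1 h1
  · haveI := Subgroup.normal_of_index_eq_two h2
    rcases IsSimpleGroup.eq_bot_or_eq_top_of_normal K inferInstance with e | e
    · rw [e, Subgroup.card_bot] at h25; omega
    · exact e

end Cfsg.Agent.CoOneFive
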