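import Cfsg.Agent.CoOneFive.Normal

/-!
The centraliser of the involution and of an element of order five.
-/

set_option autoImplicit false
set_option linter.all false
set_option maxRecDepth 100000
set_option maxHeartbeats 1000000

open Cfsg Cfsg.Agent.ThreeTrans.OrthCohom Cfsg.Agent.Classical.Quad QuadraticMap Cfsg.Agent.LargeExtra

namespace Cfsg.Agent.CoOneFive

open Cfsg.Agent.CoOneType

/-- The vector lies in one of the two subspaces. -/
def In (k : Bool) (v : V) : Prop := ∀ i ∈ fixL k, Bp v (dc i) = 0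

theorem In.add {k : Bool} {v u : V} (hv : In k v) (hu : In k u) : In k (v + u) := fun i hi => by
  rw [Bp_add_left, hv i hi, hu i hi, add_zero]

theorem In_zero (k : Bool) : In k 0 := fun i _ => Bp_zero_left _

theorem In_dc {k : Bool} {v : ℕ} (hv : v ∈ spanL k) : In k (dc v) := fun i hi => by
  rw [Bp_dc (span_lt k v hv) (movL_lt _ hi), perp_spanL k hv i hi]; rfl

theorem In_iff {k : Bool} {v : V} : In k v ↔ ∃ i ∈ spanL k, v = dc i := by
  refine ⟨fun h => ⟨(cd v).val, mem_spanL k (cd v).isLt fun i hi => ?_, (dc_cd v).symm⟩,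
    fun ⟨i, hi, e⟩ => e ▸ In_dc hi⟩
  refine (bz_eq_zero _).1 ?_
  rw [← Bp_dc (cd v).isLt (movL_lt _ hi), dc_cd]
  exact h i hi

theorem span_comb : ([false, true].all fun k => (spanL k).all fun v => (List.range 16).any fun c =>
    v == (((if c.testBit 0 then (movL k).getD 0 0 else 0) ^^^ (if c.testBit 1 then (movL k).getD 1 0 else 0)) ^^^
      ((if c.testBit 2 then (movL k).getD 2 0 else 0) ^^^ (if c.testBit 3 then (movL k).getD 3 0 else 0)))) = true := by
  decide +kernel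

/-- A map fixing a basis of the subspace fixes all of it. -/
theorem fix_In {g : O} {k : Bool} (h : ∀ v ∈ movL k, g.1 (dc v) = dc v) {x : V} (hx : In k x) : g.1 x = x := by
  obtain ⟨i, hi, rfl⟩ := In_iff.1 hx
  obtain ⟨c, -, hc⟩ := List.any_eq_true.1 (List.all_eq_true.1 (List.all_eq_true.1 span_comb k (mem_bool k)) i hi)
  rw [beq_iff_eq] at hc
  have key : ∀ (b : Bool) (j : ℕ), j < 4 → g.1 (dc (if b then (movL k).getD j 0 else 0)) =
      dc (if b then (movL k).getD j 0 else 0) := by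
    intro b j hj
    cases b
    · simp only [Bool.false_eq_true, if_false, dc_zero, map_zero]
    · refine h _ ?_
      exact (by decide : ∀ k : Bool, ∀ j < 4, (movL k).getD j 0 ∈ movL k) k j hj
  rw [hc]
  simp only [dc_xor, map_add]
  rw [key _ 0 (by norm_num), key _ 1 (by norm_num), key _ 2 (by norm_num), key _ 3 (by norm_num)]

theorem In_inter {v : V} (h1 : In true v) (h2 : In false v) : v = 0 := by
  obtain ⟨i, hi, rfl⟩ := In_iff.1 h1
  obtain ⟨j, hj, e⟩ := In_iff.1 h2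
  have := dc_inj (span_lt _ i hi) (span_lt _ j hj) e
  subst this
  rw [(by decide +kernel : ∀ i ∈ spanL true, i ∈ spanL false → i = 0) i hi hj, dc_zero]

theorem exists_parts (v : V) : ∃ v₁ v₂, In false v₁ ∧ In true v₂ ∧ v = v₁ + v₂ := by
  have key : ∀ i : Fin 256, (spanL false).any (fun a => (spanL true).contains (a ^^^ i.val)) = true := by decide +kernel
  obtain ⟨a, ha, hb⟩ := List.any_eq_true.1 (key (cd v))
  refine ⟨dc a, dc (a ^^^ (cd v).val), In_dc ha, In_dc (List.contains_iff_mem.1 hb), ?_⟩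
  rw [← dc_xor, ← Nat.xor_assoc, Nat.xor_self, Nat.zero_xor, dc_cd]

theorem AG_fix {k : Bool} {g : O} (hg : g ∈ AG k) {x : V} (hx : In (!k) x) : g.1 x = x :=
  fix_In (fun v hv => hg.2 v hv) hx

theorem AG_keep {k : Bool} {g : O} (hg : g ∈ AG k) {x : V} (hx : In k x) : In k (g.1 x) := fun i hi => by
  rw [← hg.2 i hi, polar_g]
  exact hx i hi

theorem mem_AG_of_fix {k : Bool} {g : O} (hd : dsign g = 1) (h : ∀ x, In (!k) x → g.1 x = x) : g ∈ AG k :=
  ⟨hd, fun v hv => h _ (In_dc ((by decide +kernel : ∀ k : Bool, ∀ v ∈ movL k, v ∈ spanL k) _ v hv))⟩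

theorem B0_AG : B0 ∈ AG true := by
  refine ⟨B0_even, fun v hv => ?_⟩
  rw [(B0_code v (movL_lt _ hv)).2]
  exact congrArg dc (beq_iff_eq.1 (List.all_eq_true.1 (List.all_eq_true.1 (List.all_eq_true.1 gen_fix true (mem_bool _)) 0
    (List.mem_finRange _)) v hv))

theorem B0_fix_In {x : V} : B0.1 x = x ↔ In false x := by rw [B0_fix, In_iff]

theorem B0_ne : B0 ≠ 1 := fun e => by
  have h : B0.1 (dc 8) = dc 8 := by rw [e, oG_one_apply]
  exact absurd (B0_fix_In.1 h 128 (by decide)) (by rw [Bp_dc (by norm_num) (by norm_num)]; decide)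

theorem AG_comm {g : O} (hg : g ∈ AG false) : g * B0 = B0 * g := by
  refine ext_movL fun k v hv => ?_
  have hin : In k (dc v) := In_dc ((by decide +kernel : ∀ k : Bool, ∀ v ∈ movL k, v ∈ spanL k) k v hv)
  cases k
  · rw [oG_mul_apply, oG_mul_apply, B0_fix_In.2 hin, B0_fix_In.2 (AG_keep hg hin)]
  · rw [oG_mul_apply, oG_mul_apply, AG_fix hg (k := false) hin, AG_fix hg (k := false) (AG_keep B0_AG hin)]

variable {G : Type*} [Group G] [Finite G] {z : G}

section general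

variable (S : CoOne z)
include S

theorem act_pow {c : G} (hc : c * z = z * c) : ∀ n : ℕ, S.act (c ^ n) = S.act c ^ n
  | 0 => by rw [pow_zero, pow_zero, S.act_one]
  | n + 1 => by rw [pow_succ, pow_succ, S.act_mul (Commute.pow_left hc n).eq hc, act_pow hc n]

theorem act_conj {c x : G} (hc : c * z = z * c) (hx : x * z = z * x) :
    S.act (c * x * c⁻¹) = S.act c * S.act x * (S.act c)⁻¹ := by
  rw [S.act_mul (Commute.mul_left hc hx).eq (Commute.inv_left hc).eq, S.act_mul hc hx, S.act_inv hc]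

theorem conj_cent {c x : G} (hc : c * z = z * c) (hx : x * z = z * x) : c * x * c⁻¹ * z = z * (c * x * c⁻¹) :=
  (Commute.mul_left (Commute.mul_left hc hx) (Commute.inv_left hc)).eq

theorem pow_four {a : G} (ha : a ∈ oc z) : a ^ 4 = 1 := by
  rw [show (4 : ℕ) = 2 * 2 from rfl, pow_mul, pow_two, pow_two, S.pr_sq a ha, S.zp_sq]

theorem eq_one_of_act {x : G} (xz : x * z = z * x) (x5 : x ^ 5 = 1) (h : S.act x = 1) : x = 1 := by
  have h4 := pow_four S (S.act_ker x xz h)
  rwa [show (5 : ℕ) = 4 + 1 from rfl, pow_succ, h4, one_mul] at x5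

theorem comm_iff_fixed {y a : G} (yz : y * z = z * y) (y5 : y ^ 5 = 1) (ha : a ∈ oc z) :
    y * a = a * y ↔ (S.act y).1 (S.pr a) = S.pr a := by
  constructor
  · intro h
    rw [← S.act_spec y yz a ha, h, mul_inv_cancel_right]
  · intro h
    rw [← S.act_spec y yz a ha] at h
    rcases S.pr_eq ha (S.nrm yz ha) h.symm with e | e
    · exact mul_inv_eq_iff_eq_mul.1 e
    · exfalso
      have h2 : y * (a * z) * y⁻¹ = a := by
        calc y * (a * z) * y⁻¹ = y * a * y⁻¹ * (y * z * y⁻¹) := by group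
          _ = a * z * z := by rw [e, yz, mul_inv_cancel_right]
          _ = a := by rw [mul_assoc, S.zz, mul_one]
      have h3 : a = a * z := by
        calc a = y ^ 5 * a * (y ^ 5)⁻¹ := by rw [y5]; group
          _ = y * (y * (y * (y * (y * a * y⁻¹) * y⁻¹) * y⁻¹) * y⁻¹) * y⁻¹ := by
            rw [pow_succ, pow_succ, pow_succ, pow_two]; group
          _ = a * z := by rw [e, h2, e, h2, e]
      exact S.zne (mul_eq_left.1 h3.symm)

/-- Elements of order five with the same action are conjugate by the extraspecial group. -/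
theorem conj_same {x y : G} (xz : x * z = z * x) (yz : y * z = z * y) (x5 : x ^ 5 = 1) (y5 : y ^ 5 = 1)
    (h : S.act x = S.act y) : ∃ q ∈ oc z, q * y * q⁻¹ = x := by
  have hxy : x * y⁻¹ ∈ oc z := S.act_ker _ (Commute.mul_left xz (Commute.inv_left yz)).eq
    (by rw [S.act_mul xz (Commute.inv_left yz).eq, S.act_inv yz, h, mul_inv_cancel])
  have hmem : ∀ q : oc z, x * q.1 * y⁻¹ ∈ oc z := fun q => by
    rw [show x * q.1 * y⁻¹ = x * q.1 * x⁻¹ * (x * y⁻¹) by group]
    exact mul_mem (S.nrm xz q.2) hxy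
  obtain ⟨q, hq⟩ : ∃ q : oc z, x * q.1 * y⁻¹ = q.1 := by
    have hm := fix_modEq (fun q : oc z => (⟨x * q.1 * y⁻¹, hmem q⟩ : oc z)) (fun q => Subtype.ext (by
      show x * (x * (x * (x * (x * q.1 * y⁻¹) * y⁻¹) * y⁻¹) * y⁻¹) * y⁻¹ = q.1
      calc _ = x ^ 5 * q.1 * (y ^ 5)⁻¹ := by simp only [pow_succ, pow_zero, one_mul]; group
        _ = q.1 := by rw [x5, y5]; group))
    rw [show Nat.card ↥(oc z) = 512 from S.card] at hm
    by_contra hc
    push Not at hc
    haveI : IsEmpty {a : oc z // (⟨x * a.1 * y⁻¹, hmem a⟩ : oc z) = a} := ⟨fun a => hc a.1 (congrArg Subtype.val a.2)⟩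
    rw [Nat.card_of_isEmpty] at hm
    exact absurd hm (by decide)
  refine ⟨q.1, q.2, ?_⟩
  calc q.1 * y * q.1⁻¹ = x * q.1 * y⁻¹ * y * q.1⁻¹ := by rw [hq]
    _ = x := by group

/-- All elements of order five with a fixed vector are conjugate. -/
theorem conj_five {x y : G} (xz : x * z = z * x) (yz : y * z = z * y) (x5 : x ^ 5 = 1) (y5 : y ^ 5 = 1)
    (x1 : x ≠ 1) (y1 : y ≠ 1) (hx : ∃ v ≠ 0, (S.act x).1 v = v) (hy : ∃ v ≠ 0, (S.act y).1 v = v) :
    ∃ c, c * z = z * c ∧ c * x * c⁻¹ = y := by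
  obtain ⟨v, v0, hv⟩ := hx
  obtain ⟨u, u0, hu⟩ := hy
  obtain ⟨a, da, ea⟩ := normal_form (S.act_even x xz) (by rw [← act_pow S xz, x5, S.act_one])
    (fun e => x1 (eq_one_of_act S xz x5 e)) hv v0
  obtain ⟨b, db, eb⟩ := normal_form (S.act_even y yz) (by rw [← act_pow S yz, y5, S.act_one])
    (fun e => y1 (eq_one_of_act S yz y5 e)) hu u0
  obtain ⟨c, hc, hca⟩ := S.act_surj (b⁻¹ * a) (by rw [dsign_mulO, dsign_invO db, da, one_mul])
  obtain ⟨q, hq, hqe⟩ := conj_same S yz (conj_cent S hc xz) y5 (by rw [conj_pow, x5]; group) (by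
    rw [act_conj S hc xz, hca]
    calc S.act y = b⁻¹ * (b * S.act y * b⁻¹) * b := by group
      _ = b⁻¹ * (a * S.act x * a⁻¹) * b := by rw [ea, eb]
      _ = _ := by group)
  exact ⟨q * c, (Commute.mul_left (S.comm hq) hc).eq, by rw [← hqe]; group⟩

/-- Change of coordinates. -/
theorem rebase {c : O} (hc : dsign c = 1) : ∃ S' : CoOne z, ∀ d, S'.act d = c * S.act d * c⁻¹ := by
  refine ⟨{ sett := S.sett, card := S.card, pr := fun a => c.1 (S.pr a),
            pr_mul := fun a ha b hb => by rw [S.pr_mul a ha b hb, map_add]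
            pr_ker := fun a ha h => S.pr_ker a ha (c.1.map_eq_zero_iff.1 h)
            pr_z := by rw [S.pr_z, map_zero]
            pr_surj := fun v => by
              obtain ⟨u, rfl⟩ := c.1.surjective v
              obtain ⟨a, ha, rfl⟩ := S.pr_surj u
              exact ⟨a, ha, rfl⟩
            pr_sq := fun a ha => by rw [c.2]; exact S.pr_sq a ha
            act := fun d => c * S.act d * c⁻¹
            act_spec := fun d hd a ha => by
              rw [S.act_spec d hd a ha, ← oG_mul_apply, ← oG_mul_apply, inv_mul_cancel_right]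
            act_even := fun d hd => by rw [dsign_mulO, dsign_mulO, hc, S.act_even d hd, dsign_invO hc]; rfl
            act_surj := fun g hg => by
              obtain ⟨d, hd, e⟩ := S.act_surj (c⁻¹ * g * c) (by rw [dsign_mulO, dsign_mulO, dsign_invO hc, hg, hc]; rfl)
              exact ⟨d, hd, by rw [e]; group⟩
            act_ker := fun d hd h => S.act_ker d hd (by
              calc S.act d = c⁻¹ * (c * S.act d * c⁻¹) * c := by group
                _ = 1 := by rw [h]; group)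
            cent_card := S.cent_card
            nwc := S.nwc }, fun d => rfl⟩

end general

/-- The centraliser of an element. -/
abbrev Cy (y : G) : Subgroup G := Subgroup.centralizer ({y} : Set G)

omit [Finite G] in
theorem mem_Cy {y a : G} : a ∈ Cy y ↔ a * y = y * a := Subgroup.mem_centralizer_singleton_iff

/-- The standard situation. -/
structure Std5 (S : CoOne z) (b : G) : Prop where
  bz : b * z = z * b
  b5 : b ^ 5 = 1
  act : S.act b = B0
  es : IsExtraspecial 2 ↥(oc z ⊓ Cy b)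
  card_Q1 : Nat.card ↥(oc z ⊓ Cy b) = 32

variable {S : CoOne z} {b : G} (h : Std5 S b)
include h

theorem b_ne : b ≠ 1 := fun e => B0_ne (by rw [← h.act, e, S.act_one])

theorem orderOf_b : orderOf b = 5 := by
  haveI : Fact (Nat.Prime 5) := ⟨by norm_num⟩
  exact orderOf_eq_prime h.b5 (b_ne h)

theorem comm_b_iff {a : G} (ha : a ∈ oc z) : b * a = a * b ↔ In false (S.pr a) := by
  rw [comm_iff_fixed S h.bz h.b5 ha, h.act, B0_fix_In]

theorem mem_Q1 {a : G} : a ∈ oc z ⊓ Cy b ↔ a ∈ oc z ∧ In false (S.pr a) := by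
  rw [Subgroup.mem_inf, mem_Cy]
  exact ⟨fun h1 => ⟨h1.1, (comm_b_iff h h1.1).1 h1.2.symm⟩, fun h1 => ⟨h1.1, ((comm_b_iff h h1.1).2 h1.2).symm⟩⟩

/-- The centraliser of `z` and of the other part of the extraspecial group. -/
def Lz {S : CoOne z} {b : G} (_ : Std5 S b) : Subgroup G where
  carrier := {c | c * z = z * c ∧ c * b = b * c ∧ S.act c ∈ AG false}
  one_mem' := ⟨by simp, by simp, by rw [S.act_one]; exact one_mem _⟩
  mul_mem' := fun {x y} hx hy => ⟨(Commute.mul_left hx.1 hy.1).eq, (Commute.mul_left hx.2.1 hy.2.1).eq,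
    by rw [S.act_mul hx.1 hy.1]; exact mul_mem hx.2.2 hy.2.2⟩
  inv_mem' := fun {x} hx => ⟨(Commute.inv_left hx.1).eq, (Commute.inv_left hx.2.1).eq,
    by rw [S.act_inv hx.1]; exact inv_mem hx.2.2⟩

theorem mem_Lz {c : G} : c ∈ Lz h ↔ c * z = z * c ∧ c * b = b * c ∧ S.act c ∈ AG false := Iff.rfl

theorem Q1_le : oc z ⊓ Cy b ≤ Lz h := fun a ha =>
  ⟨S.comm ha.1, mem_Cy.1 ha.2, by rw [S.act_inner ha.1]; exact one_mem _⟩

theorem z_mem_Q1 : z ∈ oc z ⊓ Cy b := ⟨S.zmem, mem_Cy.2 h.bz.symm⟩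

theorem z_mem_Lz : z ∈ Lz h := Q1_le h (z_mem_Q1 h)

theorem lift_Lz {g : O} (hg : g ∈ AG false) : ∃ c ∈ Lz h, S.act c = g := by
  obtain ⟨c, hc, rfl⟩ := S.act_surj g hg.1
  obtain ⟨q, hq, hqe⟩ := conj_same S h.bz (conj_cent S hc h.bz) h.b5 (by rw [conj_pow, h.b5]; group) (by
    rw [act_conj S hc h.bz, h.act, AG_comm hg, mul_inv_cancel_right])
  have hact : S.act (q * c) = S.act c := by rw [S.act_mul (S.comm hq) hc, S.act_inner hq, one_mul]
  refine ⟨q * c, ⟨(Commute.mul_left (S.comm hq) hc).eq, ?_, by rw [hact]; exact hg⟩, hact⟩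
  refine mul_inv_eq_iff_eq_mul.1 ?_
  calc q * c * b * (q * c)⁻¹ = q * (c * b * c⁻¹) * q⁻¹ := by group
    _ = b := hqe

theorem comm_Q2 {c q : G} (hc : c ∈ Lz h) (hq : q ∈ oc z) (hp : In true (S.pr q)) : c * q = q * c := by
  obtain ⟨i, hi, e⟩ := In_iff.1 hp
  have key : ((spanL true).all fun v => (spanL true).any fun u => (u ^^^ b0 u) == v) = true := by decide +kernel
  obtain ⟨j, hj, hji⟩ := List.any_eq_true.1 (List.all_eq_true.1 key i hi)
  rw [beq_iff_eq] at hji
  obtain ⟨a, ha, hae⟩ := S.pr_surj (dc j)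
  have ha' := S.nrm h.bz ha
  have hp' : S.pr (a * (b * a * b⁻¹)) = dc i := by
    rw [S.pr_mul a ha _ ha', S.act_spec b h.bz a ha, h.act, hae, (B0_code j (span_lt _ j hj)).2, ← dc_xor, hji]
  have hca : S.pr (c * a * c⁻¹) = S.pr a := by
    rw [S.act_spec c hc.1 a ha]
    exact AG_fix hc.2.2 (k := false) (by rw [hae]; exact In_dc hj)
  obtain ⟨e', he'⟩ : ∃ e', c * a * c⁻¹ = a * zp z e' := by
    rcases S.pr_eq ha (S.nrm hc.1 ha) hca.symm with e1 | e1
    · exact ⟨0, by rw [e1, zp_zero, mul_one]⟩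
    · exact ⟨1, by rw [e1, zp_one]⟩
  have hzb : b * zp z e' * b⁻¹ = zp z e' := by rw [S.comm_zp h.bz e', mul_inv_cancel_right]
  have hcm : Commute c (a * (b * a * b⁻¹)) := by
    refine mul_inv_eq_iff_eq_mul.1 ?_
    calc c * (a * (b * a * b⁻¹)) * c⁻¹ = (c * a * c⁻¹) * ((c * b) * a * (c * b)⁻¹) := by group
      _ = (c * a * c⁻¹) * (b * (c * a * c⁻¹) * b⁻¹) := by rw [hc.2.1]; group
      _ = a * zp z e' * (b * a * b⁻¹ * (b * zp z e' * b⁻¹)) := by rw [he']; group
      _ = a * (zp z e' * (b * a * b⁻¹)) * zp z e' := by rw [hzb]; group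
      _ = a * (b * a * b⁻¹) := by
        rw [← S.comm_zp (S.comm ha') e', mul_assoc, mul_assoc, S.zp_sq, mul_one]
  rcases S.pr_eq (mul_mem ha ha') hq (hp'.trans e.symm) with e1 | e1
  · rw [e1]; exact hcm.eq
  · rw [e1]; exact (Commute.mul_right hcm hc.1).eq

theorem mem_Lz_iff {c : G} : c ∈ Lz h ↔ c * z = z * c ∧ ∀ q ∈ oc z, In true (S.pr q) → c * q = q * c := by
  refine ⟨fun hc => ⟨hc.1, fun q hq hp => comm_Q2 h hc hq hp⟩, fun ⟨hc, hQ⟩ => ?_⟩
  have hA : S.act c ∈ AG false := mem_AG_of_fix (S.act_even c hc) fun x hx => by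
    obtain ⟨a, ha, rfl⟩ := S.pr_surj x
    rw [← S.act_spec c hc a ha, hQ a ha hx, mul_inv_cancel_right]
  obtain ⟨l, hl, hle⟩ := lift_Lz h hA
  have hli := (inv_mem hl : l⁻¹ ∈ Lz h)
  have hq : l⁻¹ * c ∈ oc z := S.act_ker _ (Commute.mul_left hli.1 hc).eq
    (by rw [S.act_mul hli.1 hc, S.act_inv hl.1, hle, inv_mul_cancel])
  have h1 : l⁻¹ * c ∈ oc z ⊓ Cy b := (mem_Q1 h).2 ⟨hq, fun i hi => by
    obtain ⟨a, ha, hae⟩ := S.pr_surj (dc i)
    rw [← hae]
    have hIn : In true (S.pr a) := hae ▸ In_dc ((by decide +kernel : ∀ i ∈ fixL false, i ∈ spanL true) i hi)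
    exact (S.commute_iff hq ha).1 (Commute.mul_left (comm_Q2 h hli ha hIn) (hQ a ha hIn)).eq⟩
  have := mul_mem hl (Q1_le h h1)
  rwa [mul_inv_cancel_left] at this

theorem Lz_conj {c l : G} (hc : c * z = z * c) (hA : S.act c ∈ AG true) (hl : l ∈ Lz h) : c⁻¹ * l * c ∈ Lz h := by
  have hci : c⁻¹ * z = z * c⁻¹ := (Commute.inv_left hc).eq
  refine (mem_Lz_iff h).2 ⟨(Commute.mul_left (Commute.mul_left hci hl.1) hc).eq, fun q hq hp => ?_⟩
  have e := comm_Q2 h hl (S.nrm hc hq) (by rw [S.act_spec c hc q hq]; exact AG_keep hA hp)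
  calc c⁻¹ * l * c * q = c⁻¹ * (l * (c * q * c⁻¹)) * c := by group
    _ = q * (c⁻¹ * l * c) := by rw [e]; group

theorem cent_decomp {c : G} (hc : c * z = z * c) (hb : c * b = b * c) : ∃ i : ℕ, ∃ l ∈ Lz h, c = b ^ i * l := by
  have hcomm : S.act c * B0 = B0 * S.act c := by rw [← h.act, ← S.act_mul hc h.bz, hb, S.act_mul h.bz hc]
  have hW1 : ∀ x, In false x → In false ((S.act c).1 x) := fun x hx => B0_fix_In.1 (by
    rw [← oG_mul_apply, ← hcomm, oG_mul_apply, B0_fix_In.2 hx])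
  -- the image of the first singular vector
  have him : im (S.act c) 8 ∈ singL true := by
    have hfix : ∀ v ∈ fixL true, Bn (im (S.act c) 8) v = false := by
      intro v hv
      refine (bz_eq_zero _).1 ?_
      rw [← Bp_dc (im_lt _ _) (movL_lt _ hv), ← im_spec]
      have hv1 : In false (dc v) := In_dc ((by decide +kernel : ∀ v ∈ fixL true, v ∈ spanL false) v hv)
      have hfixed : In false ((S.act c⁻¹).1 (dc v)) := B0_fix_In.1 (by
        have hci : S.act c⁻¹ * B0 = B0 * S.act c⁻¹ := by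
          rw [S.act_inv hc]; exact (Commute.inv_left hcomm).eq
        rw [← oG_mul_apply, ← hci, oG_mul_apply, B0_fix_In.2 hv1])
      have e : dc v = (S.act c).1 ((S.act c⁻¹).1 (dc v)) := by rw [S.act_inv hc]; exact (oG_apply_inv _ _).symm
      rw [e, polar_g, Bp_comm]
      exact hfixed 8 (by decide)
    have hin := mem_spanL true (im_lt _ 8) hfix
    have t := beq_iff_eq.1 (List.all_eq_true.1 (List.all_eq_true.1 sing_spec true (mem_bool _)) (im (S.act c) 8)
      (List.mem_range.2 (im_lt _ 8)))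
    rw [List.contains_iff_mem.2 hin, im_q _ (by norm_num : 8 < 256)] at t
    refine List.contains_iff_mem.1 (t.symm.trans ?_)
    have h0 : im (S.act c) 8 ≠ 0 := fun e => by
      have := im_B (S.act c) (by norm_num : 8 < 256) (by norm_num : 128 < 256)
      rw [e, show Bn 8 128 = true from rfl] at this
      simp [Bn, par4] at this
    simp [h0, show qn 8 = false from rfl]
  obtain ⟨i, -, hi⟩ := List.any_eq_true.1 (List.all_eq_true.1 b0_sing _ him)
  rw [beq_iff_eq] at hi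
  refine ⟨i.val, (b ^ i.val)⁻¹ * c, ?_, (mul_inv_cancel_left _ _).symm⟩
  have hbi := Commute.inv_left (Commute.pow_left h.bz i.val)
  refine ⟨(Commute.mul_left hbi hc).eq,
    (Commute.mul_left (Commute.inv_left ((Commute.refl b).pow_left i.val)) hb).eq, ?_⟩
  obtain ⟨g, hg⟩ : ∃ g, g = S.act ((b ^ i.val)⁻¹ * c) := ⟨_, rfl⟩
  rw [← hg]
  have he : g = (B0 ^ i.val)⁻¹ * S.act c := by
    rw [hg, S.act_mul hbi.eq hc, S.act_inv (Commute.pow_left h.bz i.val).eq, act_pow S h.bz, h.act]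
  have hgB : g * B0 = B0 * g := by
    rw [he]; exact (Commute.mul_left (Commute.inv_left ((Commute.refl B0).pow_left i.val)) hcomm).eq
  have h8 : g.1 (dc 8) = dc 8 := by
    rw [he, oG_mul_apply, im_spec, ← hi, ← ((B0_code.pow i.val) 8 (by norm_num)).2, oG_inv_apply]
  refine mem_AG_of_fix (by rw [hg]; exact S.act_even _ (Commute.mul_left hbi hc).eq) fun x hx => ?_
  obtain ⟨v, hv, rfl⟩ := In_iff.1 hx
  obtain ⟨k, -, hk⟩ := List.any_eq_true.1 (List.all_eq_true.1 b0_cyclic v hv)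
  rw [beq_iff_eq] at hk
  have step : ∀ u, u < 256 → g.1 (dc u) = dc u → g.1 (dc (b0 u)) = dc (b0 u) := fun u hu e => by
    rw [← (B0_code u hu).2, ← oG_mul_apply, hgB, oG_mul_apply, e]
  have h16 := step 8 (by norm_num) h8
  have h24 := step _ (B0_code 8 (by norm_num)).1 h16
  have h32 := step _ (B0_code _ (B0_code 8 (by norm_num)).1).1 h24
  have sel : ∀ (t : Bool) (u : ℕ), g.1 (dc u) = dc u → g.1 (dc (if t then u else 0)) = dc (if t then u else 0) := by
    intro t u e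
    cases t
    · simp only [Bool.false_eq_true, if_false, dc_zero, map_zero]
    · exact e
  rw [hk]
  simp only [dc_xor, map_add]
  rw [sel _ _ h8, sel _ _ h16, sel _ _ h24, sel _ _ h32]

theorem zpowers_inter {x : G} (hx : x ∈ Subgroup.zpowers b) (hL : x ∈ Lz h) : x = 1 := by
  have x5 : x ^ 5 = 1 := by
    obtain ⟨i, rfl⟩ := Subgroup.mem_zpowers_iff.1 hx
    rw [← zpow_natCast, ← zpow_mul, mul_comm, zpow_mul, zpow_natCast, h.b5, one_zpow]
  refine eq_one_of_act S hL.1 x5 (ext_movL fun k v hv => ?_)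
  rw [oG_one_apply]
  cases k
  · have hb : x * b = b * x := hL.2.1
    obtain ⟨n, rfl⟩ : ∃ n : ℕ, b ^ n = x :=
      ((isOfFinOrder_of_finite b).mem_powers_iff_mem_zpowers.2 hx)
    rw [act_pow S h.bz, h.act]
    have : B0 ^ n ∈ AG true := pow_mem B0_AG n
    exact this.2 v hv
  · exact hL.2.2.2 v hv

theorem card_Lz : Nat.card (Lz h) = 1920 := by
  let f : Lz h →* AG false := MonoidHom.mk' (fun c => ⟨S.act c.1, c.2.2.2⟩) fun x y =>
    Subtype.ext (S.act_mul x.2.1 y.2.1)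
  have hs : Function.Surjective f := fun g => by
    obtain ⟨c, hc, e⟩ := lift_Lz h g.2
    exact ⟨⟨c, hc⟩, Subtype.ext e⟩
  have hk : f.ker = (oc z ⊓ Cy b).subgroupOf (Lz h) := by
    ext c
    rw [MonoidHom.mem_ker, Subgroup.mem_subgroupOf]
    constructor
    · intro e
      exact ⟨S.act_ker _ c.2.1 (congrArg Subtype.val e), mem_Cy.2 c.2.2.1⟩
    · intro e
      exact Subtype.ext (S.act_inner e.1)
  have hc := f.ker.card_mul_index
  rw [Subgroup.index_ker, MonoidHom.range_eq_top.2 hs, Subgroup.card_top, card_AG, hk,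
    Nat.card_congr (Subgroup.subgroupOfEquivOfLe (Q1_le h)).toEquiv, h.card_Q1] at hc
  exact hc.symm

/-- The centraliser of `Lz`. -/
abbrev Mz {S : CoOne z} {b : G} (h : Std5 S b) : Subgroup G := Subgroup.centralizer (Lz h : Set G)

theorem mem_Mz {c : G} : c ∈ Mz h ↔ ∀ l ∈ Lz h, l * c = c * l := Subgroup.mem_centralizer_iff

theorem Mz_z {c : G} (hc : c ∈ Mz h) : c * z = z * c := ((mem_Mz h).1 hc z (z_mem_Lz h)).symm

theorem Mz_act {c : G} (hc : c ∈ Mz h) : S.act c ∈ AG true :=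
  mem_AG_of_fix (S.act_even c (Mz_z h hc)) fun x hx => by
    obtain ⟨a, ha, rfl⟩ := S.pr_surj x
    rw [← S.act_spec c (Mz_z h hc) a ha, ← (mem_Mz h).1 hc a (Q1_le h ((mem_Q1 h).2 ⟨ha, hx⟩)),
      mul_inv_cancel_right]

theorem b_mem_Mz : b ∈ Mz h := (mem_Mz h).2 fun l hl => hl.2.1

theorem Q2_le {q : G} (hq : q ∈ oc z) (hp : In true (S.pr q)) : q ∈ Mz h :=
  (mem_Mz h).2 fun l hl => comm_Q2 h hl hq hp

theorem Mz_inner {q : G} (hq : q ∈ Mz h) (ho : q ∈ oc z) : In true (S.pr q) := fun i hi => by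
  obtain ⟨a, ha, hae⟩ := S.pr_surj (dc i)
  have hIn : In false (S.pr a) := hae ▸ In_dc ((by decide +kernel : ∀ i ∈ fixL true, i ∈ spanL false) i hi)
  rw [← hae]
  exact (S.commute_iff ho ha).1 ((mem_Mz h).1 hq a (Q1_le h ((mem_Q1 h).2 ⟨ha, hIn⟩))).symm

theorem lift_Mz {g : O} (hg : g ∈ AG true) (g5 : g ^ 5 = 1) (g1 : g ≠ 1) :
    ∃ y ∈ Mz h, y ^ 5 = 1 ∧ S.act y = g := by
  obtain ⟨w, rfl⟩ := exists_word true hg
  have t := List.all_eq_true.1 five_same w (mem_wdList w)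
  have h5 : ((movL true).all fun v => (wd true w)^[5] v == v) = true := List.all_eq_true.2 fun v hv => beq_iff_eq.2 (by
    refine dc_inj (((Wel_code true w).pow 5) v (movL_lt _ hv)).1 (movL_lt _ hv) ?_
    rw [← (((Wel_code true w).pow 5) v (movL_lt _ hv)).2, g5, oG_one_apply])
  have hne : ((movL true).all fun v => wd true w v == v) = false := by
    rw [Bool.eq_false_iff]
    intro hall
    refine g1 (ext_movL fun k v hv => ?_)
    rw [oG_one_apply]
    cases k
    · exact hg.2 v hv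
    · rw [((Wel_code true w) v (movL_lt _ hv)).2, beq_iff_eq.1 (List.all_eq_true.1 hall v hv)]
  rw [h5, hne, Bool.not_true, Bool.false_or, Bool.false_or] at t
  obtain ⟨k, -, hk⟩ := List.any_eq_true.1 t
  obtain ⟨j, -, hj⟩ := List.any_eq_true.1 hk
  have e : Wel true k * B0 ^ j = Wel true w * Wel true k := by
    refine ext_movL fun s v hv => ?_
    rw [oG_mul_apply, oG_mul_apply]
    cases s
    · rw [(pow_mem B0_AG j).2 v hv, (Wel_mem true k).2 v hv, (Wel_mem true w).2 v hv]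
    · rw [((B0_code.pow j) v (movL_lt _ hv)).2, ((Wel_code true k) _ ((B0_code.pow j) v (movL_lt _ hv)).1).2,
        ((Wel_code true k) v (movL_lt _ hv)).2, ((Wel_code true w) _ ((Wel_code true k) v (movL_lt _ hv)).1).2,
        beq_iff_eq.1 (List.all_eq_true.1 hj v hv)]
  obtain ⟨c, hc, hce⟩ := S.act_surj (Wel true k) (Wel_even true k)
  have hbz := (Commute.pow_left h.bz j).eq
  refine ⟨c * b ^ j * c⁻¹, (mem_Mz h).2 fun l hl => ?_, ?_, ?_⟩
  · have hl' := Lz_conj h hc (by rw [hce]; exact Wel_mem true k) hl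
    calc l * (c * b ^ j * c⁻¹) = c * ((c⁻¹ * l * c) * b ^ j) * c⁻¹ := by group
      _ = c * (b ^ j * (c⁻¹ * l * c)) * c⁻¹ := by rw [(Commute.pow_right hl'.2.1 j).eq]
      _ = c * b ^ j * c⁻¹ * l := by group
  · rw [conj_pow, ← pow_mul, mul_comm, pow_mul, h.b5, one_pow]; group
  · rw [act_conj S hc hbz, act_pow S h.bz, h.act, hce, e, mul_inv_cancel_right]

theorem five_mem_Mz {x : G} (xz : x * z = z * x) (x5 : x ^ 5 = 1) (x1 : S.act x ≠ 1) (hA : S.act x ∈ AG true) :
    x ∈ Mz h := by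
  obtain ⟨y, hy, y5, hya⟩ := lift_Mz h hA (by rw [← act_pow S xz, x5, S.act_one]) x1
  have yz := Mz_z h hy
  obtain ⟨q, hq, hqe⟩ := conj_same S xz yz x5 y5 hya.symm
  obtain ⟨v₁, v₂, h1, h2, hv⟩ := exists_parts (S.pr q)
  obtain ⟨q₂, hq₂, hq₂e⟩ := S.pr_surj v₂
  have hq₁ : q₂⁻¹ * q ∈ oc z := mul_mem (inv_mem hq₂) hq
  have hp₁ : S.pr (q₂⁻¹ * q) = v₁ := by
    rw [S.pr_mul _ (inv_mem hq₂) _ hq, S.pr_inv hq₂, hq₂e, hv, ← add_assoc, add_comm v₂ v₁, add_assoc, v_add_self,
      add_zero]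
  have hc : y * (q₂⁻¹ * q) = q₂⁻¹ * q * y := (comm_iff_fixed S yz y5 hq₁).2 (by
    rw [hya, hp₁]
    exact AG_fix hA (k := true) h1)
  have e : x = q₂ * y * q₂⁻¹ := by
    calc x = q * y * q⁻¹ := hqe.symm
      _ = q₂ * ((q₂⁻¹ * q) * y) * (q₂⁻¹ * q)⁻¹ * q₂⁻¹ := by group
      _ = q₂ * y * q₂⁻¹ := by rw [← hc]; group
  rw [e]
  have := Q2_le h hq₂ (by rw [hq₂e]; exact h2)
  exact mul_mem (mul_mem this hy) (inv_mem this)

end Cfsg.Agent.CoOneFive
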