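import Cfsg.Agent.CoOneFive.Split

/-!
The centraliser of the component is an alternating group of degree five.
-/

set_option autoImplicit false
set_option linter.all false
set_option maxRecDepth 100000
set_option maxHeartbeats 1000000

open Cfsg Cfsg.Agent.ThreeTrans.OrthCohom Cfsg.Agent.Classical.Quad QuadraticMap Cfsg.Agent.LargeExtra

namespace Cfsg.Agent.CoOneFive

open Cfsg.Agent.CoOneType
open scoped commutatorElement

variable {G : Type*} [Group G] [Finite G] {z : G} {S : CoOne z} {b : G} (h : Std5 S b) {w n : G} (M : Move h w n)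

/-- The centraliser of the second involution centraliser. -/
abbrev Mw {S : CoOne z} {b : G} (h : Std5 S b) (n : G) : Subgroup G :=
  (Mz h).map (MulAut.conj n).toMonoidHom

include h M

theorem centralizer_HG : Subgroup.centralizer (HG h n : Set G) = Mz h ⊓ Mw h n := by
  ext r
  rw [Subgroup.mem_inf, Subgroup.mem_centralizer_iff]
  constructor
  · intro hr
    refine ⟨(mem_Mz h).2 fun l hl => hr l (Subgroup.mem_sup_left hl), ⟨n⁻¹ * r * n, (mem_Mz h).2 fun l hl => ?_, by simp [mul_assoc]⟩⟩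
    have e := hr (n * l * n⁻¹) (Subgroup.mem_sup_right ⟨l, hl, rfl⟩)
    calc l * (n⁻¹ * r * n) = n⁻¹ * (n * l * n⁻¹ * r) * n := by group
      _ = n⁻¹ * (r * (n * l * n⁻¹)) * n := by rw [e]
      _ = _ := by group
  · rintro ⟨h1, y, hy, rfl⟩ l hl
    have : l ∈ Subgroup.centralizer ({(MulAut.conj n).toMonoidHom y} : Set G) := by
      refine (sup_le (fun c hc => ?_) ?_ : HG h n ≤ _) hl
      · exact Subgroup.mem_centralizer_singleton_iff.2 ((mem_Mz h).1 h1 c hc)
      · rintro _ ⟨c, hc, rfl⟩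
        refine Subgroup.mem_centralizer_singleton_iff.2 ?_
        show n * c * n⁻¹ * (n * y * n⁻¹) = n * y * n⁻¹ * (n * c * n⁻¹)
        calc n * c * n⁻¹ * (n * y * n⁻¹) = n * (c * y) * n⁻¹ := by group
          _ = _ := by rw [(mem_Mz h).1 hy c hc]; group
    exact Subgroup.mem_centralizer_singleton_iff.1 this

theorem u_Q1 : n⁻¹ * z * n ∈ oc z ⊓ Cy b :=
  ⟨M.F'.mem, mem_Cy.2 (w_comm h M.F').symm⟩

theorem u_notMz : n⁻¹ * z * n ∉ Mz h := by
  intro hu
  obtain ⟨q, hq, hqe⟩ := S.pr_surj (dc 16)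
  have hqQ : q ∈ oc z ⊓ Cy b := (mem_Q1 h).2 ⟨hq, by rw [hqe]; exact In_dc (by decide +kernel)⟩
  have := (S.commute_iff hq M.F'.mem).1 ((mem_Mz h).1 hu q (Q1_le h hqQ))
  rw [hqe, M.F'.pr_eq, Bp_dc (by norm_num) (by norm_num)] at this
  exact absurd this (by decide)

theorem z_Mz : z ∈ Mz h := (mem_Mz h).2 fun l hl => hl.1

theorem Mw_comm {y : G} (hy : y ∈ Mz h) : n * y * n⁻¹ * z = z * (n * y * n⁻¹) ∧
    n * y * n⁻¹ * w = w * (n * y * n⁻¹) := by
  constructor
  · have e := (mem_Mz h).1 hy _ (Q1_le h (u_Q1 h M))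
    calc n * y * n⁻¹ * z = n * (y * (n⁻¹ * z * n)) * n⁻¹ := by group
      _ = n * (n⁻¹ * z * n * y) * n⁻¹ := by rw [e]
      _ = _ := by group
  · rw [← M.nz]
    calc n * y * n⁻¹ * (n * z * n⁻¹) = n * (y * z) * n⁻¹ := by group
      _ = n * (z * y) * n⁻¹ := by rw [Mz_z h hy]
      _ = _ := by group

theorem Mw_fix {y : G} (hy : y ∈ Mz h) : ∀ i ∈ ([1, 34, 100] : List ℕ), (S.act (n * y * n⁻¹)).1 (dc i) = dc i := by
  intro i hi
  obtain ⟨hz, hw⟩ := Mw_comm h M hy
  rcases List.mem_cons.1 hi with rfl | hi'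
  · rw [← M.F.pr_eq, ← S.act_spec _ hz w M.F.mem, hw, mul_inv_cancel_right]
  · have hfacts : ∀ i ∈ ([34, 100] : List ℕ), i < 256 ∧ Bn i 1 = false ∧ i ∈ spanL false := by decide +kernel
    obtain ⟨hlt, hperp, hspan⟩ := hfacts i hi'
    obtain ⟨q, hq, hqe⟩ := S.pr_surj (dc i)
    have hqw : q * w = w * q := (S.commute_iff hq M.F.mem).2 (by
      rw [hqe, M.F.pr_eq, Bp_dc hlt (by norm_num), hperp]; rfl)
    have hqQ : q ∈ oc z ⊓ Cy b := (mem_Q1 h).2 ⟨hq, by rw [hqe]; exact In_dc hspan⟩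
    obtain ⟨q', hq'⟩ : ∃ q', q' = n⁻¹ * q * n := ⟨_, rfl⟩
    have q'z : q' * z = z * q' := by
      rw [hq']
      calc n⁻¹ * q * n * z = n⁻¹ * (q * (n * z * n⁻¹)) * n := by group
        _ = n⁻¹ * (w * q) * n := by rw [M.nz, hqw]
        _ = z * (n⁻¹ * q * n) := by rw [← M.nz]; group
    have q'b : q' * b = b * q' := by
      rw [hq']
      exact (Commute.mul_left (Commute.mul_left (Commute.inv_left (show Commute n b from M.nb)) (mem_Cy.1 hqQ.2)) M.nb).eq
    obtain ⟨j, l, hl, e⟩ := cent_decomp h q'z q'b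
    have h4 : q' ^ 4 = 1 := by
      rw [hq', show n⁻¹ * q * n = n⁻¹ * q * n⁻¹⁻¹ by group, conj_pow, pow_four S hq]; group
    have hbl : Commute (b ^ j) l := Commute.pow_left hl.2.1.symm j
    rw [e, hbl.mul_pow] at h4
    have h1 : (b ^ j) ^ 4 = 1 := zpowers_inter h (pow_mem (Subgroup.npow_mem_zpowers b j) 4)
      (by rw [eq_inv_of_mul_eq_one_left h4]; exact inv_mem (pow_mem hl 4))
    have h5 : (b ^ j) ^ 5 = 1 := by rw [← pow_mul, mul_comm, pow_mul, h.b5, one_pow]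
    rw [pow_succ, h1, one_mul] at h5
    rw [h5, one_mul] at e
    have hcm : q' * y = y * q' := e ▸ (mem_Mz h).1 hy l hl
    have hcq : n * y * n⁻¹ * q = q * (n * y * n⁻¹) := by
      rw [show q = n * q' * n⁻¹ by rw [hq']; group]
      calc n * y * n⁻¹ * (n * q' * n⁻¹) = n * (y * q') * n⁻¹ := by group
        _ = n * (q' * y) * n⁻¹ := by rw [hcm]
        _ = _ := by group
    rw [← hqe, ← S.act_spec _ hz q hq, hcq, mul_inv_cancel_right]

theorem Mw_act_one {y : G} (hy : y ∈ Mz h) (e : S.act (n * y * n⁻¹) = 1) : S.act y = 1 := by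
  have hm : n * y * n⁻¹ ∈ oc z := S.act_ker _ (Mw_comm h M hy).1 e
  have hyu : y ∈ oc (n⁻¹ * z * n) := by
    have h1 := conj_mem_oc (g := n⁻¹) hm
    rwa [show n⁻¹ * (n * y * n⁻¹) * n⁻¹⁻¹ = y by group, inv_inv] at h1
  obtain ⟨v, hv, hva⟩ := CoOne.act_sg M.F' hyu (Mz_z h hy)
  obtain ⟨hA⟩ : Nonempty (S.act y ∈ AG true) := ⟨Mz_act h hy⟩
  have hfix : ∀ i ∈ ([16, 34, 100] : List ℕ), sgn (cd v).val i = i := by
    intro i hi
    have hmem : i ∈ fixL true ∧ i < 256 :=
      (by decide : ∀ i ∈ ([16, 34, 100] : List ℕ), i ∈ fixL true ∧ i < 256) i hi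
    have e1 := hA.2 i hmem.1
    rw [hva, ← dc_cd v, sg_dc (cd v).isLt hmem.2] at e1
    refine dc_inj ?_ hmem.2 e1
    exact (by decide +kernel : ∀ v : Fin 256, ∀ i ∈ ([16, 34, 100] : List ℕ), sgn v.val i < 256) (cd v) i hi
  have hv1 : Bn (cd v).val 1 = false := (bz_eq_zero _).1 (by rw [← Bp_dc (cd v).isLt (by norm_num), dc_cd, hv])
  have t := List.all_eq_true.1 sg_triv (cd v).val (List.mem_range.2 (cd v).isLt)
  simp only [hv1, hfix 16 (by simp), hfix 34 (by simp), hfix 100 (by simp), Bool.not_false, beq_self_eq_true,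
    Bool.and_self, Bool.not_true, Bool.false_or, Bool.or_eq_true, beq_iff_eq] at t
  refine ext_oG fun x => ?_
  rw [oG_one_apply, hva]
  rcases t with t | t
  · rw [← dc_cd v, t, dc_zero, sg_zero]
  · rw [← dc_cd v, t, sg_e]

theorem exists_realise {u : ℕ} (hu : u ∈ spanL true) :
    ∃ y ∈ Mz h, y ∈ oc z ∧ ∀ x, (S.act (n * y * n⁻¹)).1 x = sg (dc u) x := by
  classical
  have hex : ∀ v : {i // i ∈ (spanL true).toFinset}, ∃ y, y ∈ oc z ∧ y ∈ Mz h ∧ S.pr y = dc v.1 ∧
      ∃ u : {i // i ∈ (spanL true).toFinset}, ∀ x, (S.act (n * y * n⁻¹)).1 x = sg (dc u.1) x := by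
    intro v
    obtain ⟨y, hy, hye⟩ := S.pr_surj (dc v.1)
    have hyM : y ∈ Mz h := Q2_le h hy (by rw [hye]; exact In_dc (List.mem_toFinset.1 v.2))
    have hyw : n * y * n⁻¹ ∈ oc w := M.nz ▸ conj_mem_oc hy
    obtain ⟨v', hv', hva⟩ := CoOne.act_sg M.F hyw (Mw_comm h M hyM).1
    have hfix : ∀ i ∈ ([34, 100] : List ℕ), sgn (cd v').val i = i := by
      intro i hi
      have hi' : i ∈ ([1, 34, 100] : List ℕ) := List.mem_cons_of_mem _ hi
      have hlt : i < 256 := (by decide : ∀ i ∈ ([34, 100] : List ℕ), i < 256) i hi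
      have e1 := Mw_fix h M hyM i hi'
      rw [hva, ← dc_cd v', sg_dc (cd v').isLt hlt] at e1
      refine dc_inj ?_ hlt e1
      exact (by decide +kernel : ∀ v : Fin 256, ∀ i ∈ ([34, 100] : List ℕ), sgn v.val i < 256) (cd v') i hi
    have hv1 : Bn (cd v').val 1 = false := (bz_eq_zero _).1 (by rw [← Bp_dc (cd v').isLt (by norm_num), dc_cd, hv'])
    have t := List.all_eq_true.1 sg_norm (cd v').val (List.mem_range.2 (cd v').isLt)
    simp only [hv1, hfix 34 (by simp), hfix 100 (by simp), Bool.not_false, beq_self_eq_true, Bool.and_self,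
      Bool.not_true, Bool.false_or] at t
    obtain ⟨u', hu', hcase⟩ := List.any_eq_true.1 t
    refine ⟨y, hy, hyM, hye, ⟨u', List.mem_toFinset.2 hu'⟩, fun x => ?_⟩
    rw [hva]
    show sg v' x = sg (dc u') x
    rw [← dc_cd v']
    rcases Bool.or_eq_true_iff.1 hcase with e | e
    · exact congrArg (fun k => sg (dc k) x) (beq_iff_eq.1 e).symm
    · rw [← beq_iff_eq.1 e, dc_xor, sg_shift (In_dc hu' 1 (by decide))]
  choose y hy hyM hye Φ hΦ using hex
  have hinj : Function.Injective Φ := by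
    intro v v' e
    have hact : ∀ x, (S.act (n * y v * n⁻¹)).1 x = (S.act (n * y v' * n⁻¹)).1 x := fun x => by
      rw [hΦ, hΦ, e]
    obtain ⟨k, hk, hk', ek⟩ := CoOne.same_act M.F (M.nz ▸ conj_mem_oc (hy v)) (Mw_comm h M (hyM v)).1
      (M.nz ▸ conj_mem_oc (hy v')) (Mw_comm h M (hyM v')).1 hact
    have ek' : n⁻¹ * k * n = (y v)⁻¹ * y v' := by
      calc n⁻¹ * k * n = (y v)⁻¹ * n⁻¹ * (n * y v * n⁻¹ * k) * n := by group
        _ = (y v)⁻¹ * y v' := by rw [← ek]; group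
    have hmem : n⁻¹ * k * n ∈ Mz h := by rw [ek']; exact mul_mem (inv_mem (hyM v)) (hyM v')
    have hnw : n⁻¹ * w * n = z := by rw [← M.nz]; group
    have hpr : S.pr (y v) = S.pr (y v') := by
      rcases CoOne.inter M.F hk hk' with e' | e' | e' | e'
      · rw [e', show n⁻¹ * 1 * n = 1 by group] at ek'
        rw [inv_mul_eq_one.1 ek'.symm]
      · exact absurd (e' ▸ hmem) (u_notMz h M)
      · rw [e', hnw] at ek'
        rw [show y v' = y v * z by rw [ek', mul_inv_cancel_left], S.pr_mul _ (hy v) _ S.zmem, S.pr_z, add_zero]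
      · refine absurd ?_ (u_notMz h M)
        rw [e', show n⁻¹ * (w * z) * n = (n⁻¹ * w * n) * (n⁻¹ * z * n) by group, hnw] at hmem
        have := mul_mem (inv_mem (z_Mz h M)) hmem
        rwa [inv_mul_cancel_left] at this
    rw [hye, hye] at hpr
    exact Subtype.ext (dc_inj (span_lt _ _ (List.mem_toFinset.1 v.2)) (span_lt _ _ (List.mem_toFinset.1 v'.2)) hpr)
  obtain ⟨v, hv⟩ := Finite.injective_iff_surjective.1 hinj ⟨u, List.mem_toFinset.2 hu⟩
  exact ⟨y v, hyM v, hy v, fun x => by rw [hΦ, hv]⟩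

theorem exists_five_in_R : ∃ x ∈ Mz h ⊓ Mw h n, x * z = z * x ∧ S.act x ∈ AG true ∧ S.act x ^ 5 = 1 ∧
    ∀ j : ℕ, S.act x ≠ B0 ^ j := by
  -- an element outside the given subgroup of order five
  have key : (wdList.any fun t => (movL true).all (fun v => (wd true t)^[5] v == v) &&
      (List.range 5).all fun j => (movL true).any fun v => !(wd true t v == b0^[j] v)) = true := by decide +kernel
  obtain ⟨t, -, ht⟩ := List.any_eq_true.1 key
  rw [Bool.and_eq_true] at ht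
  have t5 : Wel true t ^ 5 = 1 := ext_movL fun k v hv => by
    rw [oG_one_apply]
    cases k
    · exact (pow_mem (Wel_mem true t) 5).2 v hv
    · rw [(((Wel_code true t).pow 5) v (movL_lt _ hv)).2, beq_iff_eq.1 (List.all_eq_true.1 ht.1 v hv)]
  have tne : ∀ j : ℕ, Wel true t ≠ B0 ^ j := by
    intro j e
    have e' : Wel true t = B0 ^ (j % 5) := by
      rw [e]
      conv_lhs => rw [← Nat.mod_add_div j 5, pow_add, pow_mul, B0_five, one_pow, mul_one]
    obtain ⟨v, hv, hvne⟩ := List.any_eq_true.1 (List.all_eq_true.1 ht.2 (j % 5) (List.mem_range.2 (Nat.mod_lt _ (by norm_num))))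
    refine absurd ?_ (show wd true t v ≠ b0^[j % 5] v by simpa using hvne)
    refine dc_inj ((Wel_code true t) v (movL_lt _ hv)).1 ((B0_code.pow _) v (movL_lt _ hv)).1 ?_
    rw [← ((Wel_code true t) v (movL_lt _ hv)).2, ← ((B0_code.pow _) v (movL_lt _ hv)).2, e']
  obtain ⟨b', hb', b5', hb'a⟩ := lift_Mz h (Wel_mem true t) t5 (fun e => tne 0 (by rw [e, pow_zero]))
  obtain ⟨m, hm⟩ : ∃ m, m = n * b' * n⁻¹ := ⟨_, rfl⟩
  have mz : m * z = z * m := hm ▸ (Mw_comm h M hb').1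
  obtain ⟨g, hg⟩ : ∃ g, g = S.act m := ⟨_, rfl⟩
  have gfix : ∀ i ∈ ([1, 34, 100] : List ℕ), g.1 (dc i) = dc i := hg ▸ hm ▸ Mw_fix h M hb'
  have g5 : g ^ 5 = 1 := by
    rw [hg, ← act_pow S mz, hm, conj_pow, b5', mul_one, mul_inv_cancel, S.act_one]
  -- the correction
  have hgi : ∀ i ∈ ([1, 34, 100] : List ℕ), im g i = i := fun i hi => dc_inj (im_lt g i)
    ((by decide : ∀ i ∈ ([1, 34, 100] : List ℕ), i < 256) i hi) (by rw [← im_spec, gfix i hi])
  have t16 := List.all_eq_true.1 sg_lift (im g 16) (List.mem_range.2 (im_lt g 16))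
  have c1 : Bn (im g 16) 1 = true := by
    conv_lhs => rw [← hgi 1 (by simp)]
    rw [im_B g (by norm_num) (by norm_num)]; rfl
  have c2 : Bn (im g 16) 34 = false := by
    conv_lhs => rw [← hgi 34 (by simp)]
    rw [im_B g (by norm_num) (by norm_num)]; rfl
  have c3 : Bn (im g 16) 100 = false := by
    conv_lhs => rw [← hgi 100 (by simp)]
    rw [im_B g (by norm_num) (by norm_num)]; rfl
  simp only [c1, c2, c3, im_q g (by norm_num : (16 : ℕ) < 256), show qn 16 = false from rfl, Bool.not_false,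
    Bool.and_self, Bool.not_true, Bool.false_or] at t16
  obtain ⟨u, hu, hu16⟩ := List.any_eq_true.1 t16
  rw [beq_iff_eq] at hu16
  have hul : u < 256 := span_lt _ u hu
  have hu1 : Bp (dc u) (dc 1) = 0 := In_dc hu 1 (by decide)
  obtain ⟨y, hy, hyo, hya⟩ := exists_realise h M hu
  have yz := (Mw_comm h M hy).1
  obtain ⟨m₂, hm₂⟩ : ∃ m₂, m₂ = (n * y * n⁻¹)⁻¹ * m := ⟨_, rfl⟩
  have m₂z : m₂ * z = z * m₂ := hm₂ ▸ (Commute.mul_left (Commute.inv_left yz) mz).eq
  obtain ⟨a, ha⟩ : ∃ a, a = S.act m₂ := ⟨_, rfl⟩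
  have hga : ∀ x, g.1 x = sg (dc u) (a.1 x) := fun x => by
    rw [ha, hm₂, S.act_mul (Commute.inv_left yz).eq mz, S.act_inv yz, oG_mul_apply, ← hya, oG_apply_inv, hg]
  have haA : a ∈ AG true := by
    refine ⟨ha ▸ S.act_even m₂ m₂z, ?_⟩
    have back : ∀ i, g.1 (dc i) = sg (dc u) (dc i) → a.1 (dc i) = dc i := fun i e => by
      have h1 := congrArg (sg (dc u)) ((hga (dc i)).symm.trans e)
      rwa [sg_invol hu1, sg_invol hu1] at h1
    obtain ⟨s1, s34, s100⟩ := sg_span u hu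
    intro i hi
    simp only [fixL, movL, Bool.not_true, cond_false, List.mem_cons, List.not_mem_nil, or_false] at hi
    rcases hi with rfl | rfl | rfl | rfl
    · exact back 1 (by rw [gfix 1 (by simp), sg_fix hu1])
    · exact back 16 (by rw [im_spec, sg_dc hul (by norm_num), hu16])
    · exact back 34 (by rw [gfix 34 (by simp), sg_dc hul (by norm_num), s34])
    · exact back 100 (by rw [gfix 100 (by simp), sg_dc hul (by norm_num), s100])
  -- its order
  have step : ∀ (k : ℕ) (x : V), In true x → ∃ c : ZMod 2, (g ^ k).1 x = (a ^ k).1 x + c • dc 1 := by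
    intro k
    induction k with
    | zero => exact fun x _ => ⟨0, by rw [pow_zero, pow_zero, zero_smul, add_zero]⟩
    | succ k ih =>
      intro x hx
      obtain ⟨c, hc⟩ := ih x hx
      have hin : In true ((a ^ k).1 x) := AG_keep (pow_mem haA k) hx
      have hin' : In true (a.1 ((a ^ k).1 x)) := AG_keep haA hin
      refine ⟨Bp (a.1 ((a ^ k).1 x)) (dc u) + c, ?_⟩
      rw [pow_succ', pow_succ', oG_mul_apply, oG_mul_apply, hc, map_add, map_smul, gfix 1 (by simp), hga,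
        sg_perp (hin' 1 (by decide)), add_smul, add_assoc]
  obtain ⟨t₂, rfl⟩ := exists_word true haA
  have a5 : Wel true t₂ ^ 5 = 1 := by
    have t' := List.all_eq_true.1 five_modulo t₂ (mem_wdList t₂)
    have hall : ((movL true).all fun v =>
        ((wd true t₂)^[5] v ^^^ v == 0) || ((wd true t₂)^[5] v ^^^ v == 1)) = true := by
      refine List.all_eq_true.2 fun v hv => ?_
      obtain ⟨c, hc⟩ := step 5 (dc v) (In_dc ((by decide +kernel : ∀ v ∈ movL true, v ∈ spanL true) v hv))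
      have hlt := (((Wel_code true t₂).pow 5) v (movL_lt _ hv))
      rw [g5, oG_one_apply, hlt.2] at hc
      have hx := xor_lt hlt.1 (movL_lt _ hv)
      rcases zmod_cases c with rfl | rfl
      · rw [zero_smul, add_zero] at hc
        rw [← dc_inj (movL_lt _ hv) hlt.1 hc, Nat.xor_self]
        rfl
      · rw [one_smul] at hc
        have e1 : dc ((wd true t₂)^[5] v ^^^ v) = dc 1 := by
          rw [dc_xor, hc, ← add_assoc, v_add_self, zero_add]
        rw [dc_inj hx (by norm_num) e1]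
        rfl
    rw [hall, Bool.not_true, Bool.false_or] at t'
    refine ext_movL fun k v hv => ?_
    rw [oG_one_apply]
    cases k
    · exact (pow_mem haA 5).2 v hv
    · rw [(((Wel_code true t₂).pow 5) v (movL_lt _ hv)).2, beq_iff_eq.1 (List.all_eq_true.1 t' v hv)]
  -- the element
  obtain ⟨x, hx⟩ : ∃ x, x = m₂ ^ 16 := ⟨_, rfl⟩
  have hxM : x ∈ Mw h n := hx ▸ pow_mem (hm₂ ▸ mul_mem (inv_mem ⟨y, hy, rfl⟩) (hm ▸ ⟨b', hb', rfl⟩)) 16
  have xz : x * z = z * x := hx ▸ (Commute.pow_left m₂z 16).eq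
  have xa : S.act x = Wel true t₂ := by
    rw [hx, act_pow S m₂z, ← ha, show (16 : ℕ) = 5 * 3 + 1 from rfl, pow_succ, pow_mul, a5, one_pow, one_mul]
  have x5 : x ^ 5 = 1 := by
    have h5 : m₂ ^ 5 ∈ oc z := S.act_ker _ (Commute.pow_left m₂z 5).eq (by rw [act_pow S m₂z, ← ha, a5])
    rw [hx, ← pow_mul, show 16 * 5 = 5 * (4 * 4) by norm_num, pow_mul, pow_mul, pow_four S h5, one_pow]
  have xne : ∀ j : ℕ, Wel true t₂ ≠ B0 ^ j := by
    intro j e
    refine tne j ?_
    obtain ⟨y', hy'⟩ : ∃ y', y' = y⁻¹ * b' * (b ^ j)⁻¹ := ⟨_, rfl⟩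
    have hbjM := pow_mem (b_mem_Mz h) j
    have hy'M : y' ∈ Mz h := hy' ▸ mul_mem (mul_mem (inv_mem hy) hb') (inv_mem hbjM)
    have hnb : n * (b ^ j)⁻¹ * n⁻¹ = (b ^ j)⁻¹ := by
      rw [(Commute.inv_right ((show Commute n b from M.nb).pow_right j)).eq, mul_inv_cancel_right]
    have hconj : n * y' * n⁻¹ = m₂ * (b ^ j)⁻¹ := by
      rw [hm₂, hm, hy']
      conv_rhs => rw [← hnb]
      group
    have hbjz := (Commute.inv_left (Commute.pow_left h.bz j)).eq
    have h0 : S.act (n * y' * n⁻¹) = 1 := by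
      rw [hconj, S.act_mul m₂z hbjz, S.act_inv (Commute.pow_left h.bz j).eq, act_pow S h.bz, h.act, ← ha, e, mul_inv_cancel]
    have h1 := Mw_act_one h M hy'M h0
    rw [hy', S.act_mul (Commute.mul_left (Commute.inv_left (Mz_z h hy)) (Mz_z h hb')).eq hbjz,
      S.act_mul (Commute.inv_left (Mz_z h hy)).eq (Mz_z h hb'), S.act_inv (Commute.pow_left h.bz j).eq, act_pow S h.bz,
      h.act, hb'a, S.act_inv (Mz_z h hy)] at h1
    have hyone : S.act y = 1 := S.act_inner hyo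
    rw [hyone, inv_one, one_mul, mul_inv_eq_one] at h1
    exact h1
  exact ⟨x, ⟨five_mem_Mz h xz x5 (fun e => xne 0 (by rw [← xa, e, pow_zero])) (xa ▸ haA), hxM⟩, xz, xa ▸ haA,
    by rw [xa, a5], fun j => xa ▸ xne j⟩

theorem b_mem_R : b ∈ Mz h ⊓ Mw h n :=
  ⟨b_mem_Mz h, b, b_mem_Mz h, by
    show n * b * n⁻¹ = b
    rw [M.nb, mul_inv_cancel_right]⟩

theorem z_notMem_R : z ∉ Mz h ⊓ Mw h n := by
  rintro ⟨-, y, hy, e⟩
  refine u_notMz h M ?_
  have e' : n * y * n⁻¹ = z := e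
  rw [show n⁻¹ * z * n = y by rw [← e']; group]
  exact hy

theorem R_ker {r : G} (hr : r ∈ Mz h ⊓ Mw h n) (e : S.act r = 1) : r = 1 := by
  have hro : r ∈ oc z := S.act_ker r (Mz_z h hr.1) e
  have hin := Mz_inner h hr.1 hro
  by_cases h0 : S.pr r = 0
  · exact (S.pr_ker r hro h0).resolve_right fun e' => z_notMem_R h M (e' ▸ hr)
  · exfalso
    obtain ⟨i, hi, hie⟩ := In_iff.1 hin
    rcases Bool.or_eq_true_iff.1 (List.all_eq_true.1 b0_pairing i hi) with t | t
    · exact h0 (by rw [hie, beq_iff_eq.1 t, dc_zero])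
    · obtain ⟨j, -, hj⟩ := List.any_eq_true.1 t
      have hbj := pow_mem (b_mem_R h M) j
      have hbz := (Commute.pow_left h.bz j).eq
      have hr' : b ^ j * r * (b ^ j)⁻¹ ∈ Mz h ⊓ Mw h n := mul_mem (mul_mem hbj hr) (inv_mem hbj)
      have hro' : b ^ j * r * (b ^ j)⁻¹ ∈ oc z := S.nrm hbz hro
      have ec := S.commutator_eq hro hro'
      rw [S.act_spec _ hbz r hro, act_pow S h.bz, h.act, hie, ((B0_code.pow j) i (span_lt _ i hi)).2,
        Bp_dc (span_lt _ i hi) ((B0_code.pow j) i (span_lt _ i hi)).1, hj, show bz true = 1 from rfl, zp_one] at ec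
      have hmem := mul_mem (mul_mem (mul_mem hr hr') (inv_mem hr)) (inv_mem hr')
      rw [ec] at hmem
      exact z_notMem_R h M hmem

theorem iso_R : Nonempty (↥(Mz h ⊓ Mw h n) ≃* ↥(alternatingGroup (Fin 5))) := by
  classical
  let f : ↥(Mz h ⊓ Mw h n) →* AG true := MonoidHom.mk' (fun r => ⟨S.act r.1, Mz_act h r.2.1⟩) fun x y =>
    Subtype.ext (S.act_mul (Mz_z h x.2.1) (Mz_z h y.2.1))
  have hinj : Function.Injective f := (injective_iff_map_eq_one f).2 fun r e =>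
    Subtype.ext (R_ker h M r.2 (congrArg Subtype.val e))
  obtain ⟨x, hx, -, hxA, hx5, hxne⟩ := exists_five_in_R h M
  haveI : Fact (Nat.Prime 5) := ⟨by norm_num⟩
  haveI := isSimple_AG true
  haveI : Finite ↥(AG true) := Nat.finite_of_card_ne_zero (by rw [card_AG]; norm_num)
  have htop : f.range = ⊤ := by
    refine eq_top_of_fives (card_AG true) (x := ⟨B0, B0_AG⟩) (y := ⟨S.act x, hxA⟩)
      ⟨⟨b, b_mem_R h M⟩, Subtype.ext h.act⟩ ⟨⟨x, hx⟩, rfl⟩
      (orderOf_eq_prime (Subtype.ext B0_five) fun e => B0_ne (congrArg Subtype.val e))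
      (orderOf_eq_prime (Subtype.ext hx5) fun e => hxne 0 (by rw [pow_zero]; exact congrArg Subtype.val e)) ?_
    intro hmem
    obtain ⟨j, hj⟩ := (isOfFinOrder_of_finite (⟨B0, B0_AG⟩ : AG true)).mem_powers_iff_mem_zpowers.2 hmem
    exact hxne j (congrArg Subtype.val hj).symm
  obtain ⟨e⟩ := equiv_alt true
  exact ⟨(((MonoidHom.ofInjective hinj).trans (MulEquiv.subgroupCongr htop)).trans Subgroup.topEquiv).trans e⟩

end Cfsg.Agent.CoOneFive
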