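import Cfsg.Agent.CoOneType.Codes

/-!
Two orthogonal elliptic four-spaces in the hyperbolic space of dimension eight, on codes.
-/

set_option autoImplicit false
set_option maxRecDepth 100000
set_option maxHeartbeats 1000000

namespace Cfsg.Agent.CoOneFive

open Cfsg.Agent.CoOneType

/-- Entry `v` of a packed table with eight bits per entry. -/
def getOct (t v : ℕ) : ℕ := Nat.land (Nat.shiftRight t (Nat.mul 8 v)) 255

/-- The table of generator number 0 on one of the two sides. -/
def ta (k : Bool) : ℕ := bif k then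
  0xd9d85b5a19189b9a5958dbda99981b1ac9c84b4a09088b8a4948cbca89880b0a7978fbfab9b83b3af9f87b7a3938bbba6968ebeaa9a82b2ae9e86b6a2928abaadddc5f5e1d1c9f9e5d5cdfde9d9c1f1ecdcc4f4e0d0c8f8e4d4ccfce8d8c0f0e7d7cfffebdbc3f3efdfc7f7e3d3cbfbe6d6cefeeadac2f2eedec6f6e2d2cafae7776f5f4b7b63534f7f675743736b5b46766e5e4a7a62524e7e665642726a5a4d7d65554171695945756d5d497961514c7c64544070685844746c5c4878605047372f1f0b3b23130f3f271703332b1b06362e1e0a3a22120e3e261602322a1a0d3d25150131291905352d1d093921110c3c24140030281804342c1c083820100
  else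
  0x9b8b8999c9d9dbcb93838191c1d1d3c3a8b8baaafaeae8f8a0b0b2a2f2e2e0f0fdedefffafbfbdadf5e5e7f7a7b7b5a5cededccc9c8c8e9ec6d6d4c4948486968d9d9f8fdfcfcddd85959787d7c7c5d5beaeacbcecfcfeeeb6a6a4b4e4f4f6e6ebfbf9e9b9a9abbbe3f3f1e1b1a1a3b3d8c8cada8a9a9888d0c0c2d2829290801b0b091949595b4b130301114151534328383a2a7a6a687820303222726260707d6d6f7f2f3f3d2d75656777273735254e5e5c4c1c0c0e1e46565444140406160d1d1f0f5f4f4d5d05151707574745553e2e2c3c6c7c7e6e36262434647476666b7b796939292b3b637371613121233358484a5a0a1a18085040425202121000

/-- The table of generator number 1 on one of the two sides. -/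
def tb (k : Bool) : ℕ := bif k then
  0xb3b2d3d2fbfa9b9abbbadbdaf3f29392a3a2c3c2ebea8b8aabaacbcae3e28382f1f09190b9b8d9d8f9f89998b1b0d1d0e1e08180a9a8c9c8e9e88988a1a0c1c0dddcbdbc9594f5f4d5d4b5b49d9cfdfccdccadac8584e5e4c5c4a5a48d8cedec9f9efffed7d6b7b69796f7f6dfdebfbe8f8eefeec7c6a7a68786e7e6cfceafae1d1c7d7c55543534151475745d5c3d3c0d0c6d6c45442524050465644d4c2d2c5f5e3f3e17167776575637361f1e7f7e4f4e2f2e07066766474627260f0e6f6e737213123b3a5b5a7b7a1b1a33325352636203022b2a4b4a6b6a0b0a232243423130515079781918393859587170111021204140696809082928494861600100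
  else
  0x9b9afdfcd8d9bebf9392f5f4d0d1b6b7a8a9cecfebea8d8ca0a1c6c7e3e285849899feffdbdabdbc9091f6f7d3d2b5b4abaacdcce8e98e8fa3a2c5c4e0e186879c9dfafbdfdeb9b89495f2f3d7d6b1b0afaec9c8eced8a8ba7a6c1c0e4e582839f9ef9f8dcddbabb9796f1f0d4d5b2b3acadcacbefee8988a4a5c2c3e7e681801b1a7d7c58593e3f131275745051363728294e4f6b6a0d0c202146476362050418197e7f5b5a3d3c10117677535235342b2a4d4c68690e0f23224544606106071c1d7a7b5f5e393814157273575631302f2e49486c6d0a0b27264140646502031f1e79785c5d3a3b17167170545532332c2d4a4b6f6e09082425424367660100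

/-- The table of generator number 2 on one of the two sides. -/
def tc (k : Bool) : ℕ := bif k then
  0xd9d8d3d2dddcd7d6d1d0dbdad5d4dfdec9c8c3c2cdccc7c6c1c0cbcac5c4cfcef1f0fbfaf5f4fffef9f8f3f2fdfcf7f6e1e0ebeae5e4efeee9e8e3e2edece7e691909b9a95949f9e999893929d9c979681808b8a85848f8e898883828d8c8786b9b8b3b2bdbcb7b6b1b0bbbab5b4bfbea9a8a3a2adaca7a6a1a0abaaa5a4afae77767d7c737279787f7e75747b7a717067666d6c636269686f6e65646b6a61605f5e55545b5a515057565d5c535259584f4e45444b4a414047464d4c434249483f3e35343b3a313037363d3c333239382f2e25242b2a212027262d2c2322292817161d1c131219181f1e15141b1a111007060d0c030209080f0e05040b0a0100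
  else
  0xdcdddfded8d9dbdad4d5d7d6d0d1d3d2efeeecedebeae8e9e7e6e4e5e3e2e0e1fdfcfefff9f8fafbf5f4f6f7f1f0f2f3cecfcdcccacbc9c8c6c7c5c4c2c3c1c09c9d9f9e98999b9a9495979690919392afaeacadabaaa8a9a7a6a4a5a3a2a0a1bdbcbebfb9b8babbb5b4b6b7b1b0b2b38e8f8d8c8a8b898886878584828381805c5d5f5e58595b5a54555756505153526f6e6c6d6b6a686967666465636260617d7c7e7f79787a7b75747677717072734e4f4d4c4a4b494846474544424341401c1d1f1e18191b1a14151716101113122f2e2c2d2b2a282927262425232220213d3c3e3f39383a3b35343637313032330e0f0d0c0a0b09080607050402030100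

/-- The table of generator number 3 on one of the two sides. -/
def td (k : Bool) : ℕ := bif k then
  0xb3b2b1b0bfbebdbcbbbab9b8b7b6b5b4a3a2a1a0afaeadacabaaa9a8a7a6a5a4939291909f9e9d9c9b9a999897969594838281808f8e8d8c8b8a898887868584fbfaf9f8f7f6f5f4f3f2f1f0fffefdfcebeae9e8e7e6e5e4e3e2e1e0efeeedecdbdad9d8d7d6d5d4d3d2d1d0dfdedddccbcac9c8c7c6c5c4c3c2c1c0cfcecdcc7f7e7d7c73727170777675747b7a79786f6e6d6c63626160676665646b6a69685f5e5d5c53525150575655545b5a59584f4e4d4c43424140474645444b4a4948373635343b3a39383f3e3d3c33323130272625242b2a29282f2e2d2c23222120171615141b1a19181f1e1d1c13121110070605040b0a09080f0e0d0c03020100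
  else
  0xb9b8bbbabcbdbebfb1b0b3b2b4b5b6b7eeefecedebeae9e8e6e7e4e5e3e2e1e098999a9b9d9c9f9e9091929395949796cfcecdcccacbc8c9c7c6c5c4c2c3c0c1f8f9fafbfdfcfffef0f1f2f3f5f4f7f6afaeadacaaaba8a9a7a6a5a4a2a3a0a1d9d8dbdadcdddedfd1d0d3d2d4d5d6d78e8f8c8d8b8a8988868784858382818039383b3a3c3d3e3f31303332343536376e6f6c6d6b6a6968666764656362616018191a1b1d1c1f1e10111213151417164f4e4d4c4a4b4849474645444243404178797a7b7d7c7f7e70717273757477762f2e2d2c2a2b2829272625242223202159585b5a5c5d5e5f51505352545556570e0f0c0d0b0a09080607040503020100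

/-- A basis of the moved subspace. -/
def movL (k : Bool) : List ℕ := bif k then [8, 128, 38, 68] else [1, 16, 34, 100]

/-- A basis of the fixed subspace. -/
def fixL (k : Bool) : List ℕ := movL !k

/-- All vectors of the moved subspace. -/
def spanL (k : Bool) : List ℕ :=
  (movL k).foldl (fun l b => l ++ l.map (fun x => x ^^^ b)) [0]

/-- The five singular points of the moved subspace. -/
def singL (k : Bool) : List ℕ := bif k then [8, 128, 174, 204, 234] else [1, 16, 51, 87, 117]

/-- A reflection of the moved subspace. -/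
def oddR (k : Bool) : ℕ := bif k then 136 else 17

/-- The roots of the generators. -/
def rootsOf (k : Bool) : List ℕ :=
  bif k then [136, 46, 98, 38, 46, 98, 46, 38, 76, 68] else [17, 35, 100, 34, 35, 100, 35, 34, 71, 70]

/-- The generators as products of reflections. -/
def genF (k : Bool) (i : Fin 4) (v : ℕ) : ℕ :=
  match i with
  | 0 => g2n ((rootsOf k).getD 0 0) ((rootsOf k).getD 1 0) (g2n ((rootsOf k).getD 2 0) ((rootsOf k).getD 3 0) v)
  | 1 => g2n ((rootsOf k).getD 4 0) ((rootsOf k).getD 5 0) v
  | 2 => g2n ((rootsOf k).getD 6 0) ((rootsOf k).getD 7 0) v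
  | 3 => g2n ((rootsOf k).getD 8 0) ((rootsOf k).getD 9 0) v

/-- The generators, as tables. -/
def genT (k : Bool) (i : Fin 4) (v : ℕ) : ℕ :=
  match i with
  | 0 => getOct (ta k) v
  | 1 => getOct (tb k) v
  | 2 => getOct (tc k) v
  | 3 => getOct (td k) v

/-- Words in the generators. -/
abbrev Wd : Type := Fin 5 × Fin 3 × Fin 2 × Fin 2

/-- The code map of a word. -/
def wd (k : Bool) (w : Wd) (v : ℕ) : ℕ :=
  (genT k 0)^[w.1.val] ((genT k 1)^[w.2.1.val] ((genT k 2)^[w.2.2.1.val] ((genT k 3)^[w.2.2.2.val] v)))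

/-- All words. -/
def wdList : List Wd :=
  (List.finRange 5).flatMap fun a => (List.finRange 3).flatMap fun b => (List.finRange 2).flatMap fun c =>
    (List.finRange 2).map fun d => (a, b, c, d)

theorem mem_wdList : ∀ w : Wd, w ∈ wdList := by decide +kernel

theorem gen_tables : ([false, true].all fun k => (List.range 256).all fun v => (List.finRange 4).all fun i =>
    (genF k i v == genT k i v) && Nat.blt (genT k i v) 256) = true := by decide +kernel

theorem roots_norm : ∀ k : Bool, ∀ r ∈ rootsOf k, r < 256 ∧ qn r = true ∧ r ∈ spanL k := by decide +kernel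

theorem gen_fix : ([false, true].all fun k => (List.finRange 4).all fun i => (fixL k).all fun b =>
    genT k i b == b) = true := by decide +kernel

theorem span_lt : ∀ k : Bool, ∀ v ∈ spanL k, v < 256 := by decide +kernel

theorem perp_span : ([false, true].all fun k => (List.range 256).all fun v =>
    ((fixL k).all fun b => !(Bn v b)) == (spanL k).contains v) = true := by decide +kernel

/-- The values which determine an element. -/
def tup (k : Bool) (f : ℕ → ℕ) : List ℕ := (movL k).map f

/-- The reflection in the chosen root. -/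
def oddF (k : Bool) (v : ℕ) : ℕ := if Bn v (oddR k) then v ^^^ oddR k else v

/-- The tuples of the even elements. -/
def evenTups (k : Bool) : List (List ℕ) := wdList.map fun w => tup k (wd k w)

/-- The tuples of the odd elements. -/
def oddTups (k : Bool) : List (List ℕ) := wdList.map fun w => tup k (fun v => wd k w (oddF k v))

theorem tup_complete : ([false, true].all fun k => (spanL k).all fun a => qn a || (spanL k).all fun b =>
    !(!(qn b) && Bn a b) || (spanL k).all fun c => !(qn c && !(Bn a c) && !(Bn b c)) || (spanL k).all fun d =>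
      !(qn d && !(Bn a d) && !(Bn b d) && Bn c d) ||
        (evenTups k).contains [a, b, c, d] || (oddTups k).contains [a, b, c, d]) = true := by decide +kernel

theorem tup_inj : ∀ k : Bool, (evenTups k).Nodup := by decide +kernel

theorem words_perm : ([false, true].all fun k => wdList.all fun w => (singL k).all fun p =>
    (singL k).contains (wd k w p)) = true := by decide +kernel

theorem words_faithful : ([false, true].all fun k => wdList.all fun w =>
    !((singL k).all fun p => wd k w p == p) || (tup k (wd k w) == movL k)) = true := by decide +kernel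

theorem sing_spec : ([false, true].all fun k => (List.range 256).all fun v =>
    ((spanL k).contains v && !(v == 0) && !(qn v)) == (singL k).contains v) = true := by decide +kernel

/-- The standard element of order five. -/
def b0 (v : ℕ) : ℕ := genT true 0 v

/-- An element of order five on the other side. -/
def b1 (v : ℕ) : ℕ := genT false 0 v

theorem b0_facts : ((List.range 256).all fun v => (b0 (b0 (b0 (b0 (b0 v)))) == v) &&
    ((b0 v == v) == (spanL false).contains v) && (b1 (b1 (b1 (b1 (b1 v)))) == v)) = true := by decide +kernel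

theorem b0_sing : ((singL true).all fun v => (List.finRange 5).any fun i => b0^[i.val] 8 == v) = true := by
  decide +kernel

theorem b0_cyclic : ((spanL true).all fun v => (List.range 16).any fun c =>
    v == ((if c.testBit 0 then 8 else 0) ^^^ (if c.testBit 1 then b0 8 else 0) ^^^
      ((if c.testBit 2 then b0 (b0 8) else 0) ^^^ (if c.testBit 3 then b0 (b0 (b0 8)) else 0)))) = true := by
  decide +kernel

theorem b0_pairing : ((spanL true).all fun v => (v == 0) || (List.range 5).any fun i => Bn v (b0^[i] v)) = true := by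
  decide +kernel

theorem mixed_fpf : ((List.range 256).all fun v => (v == 0) || [1, 2, 3, 4].all fun i =>
    !(b1 (b0^[i] v) == v)) = true := by decide +kernel

theorem five_same : (wdList.all fun w => !((movL true).all fun v => (wd true w)^[5] v == v) ||
    ((movL true).all fun v => wd true w v == v) || wdList.any fun h => [1, 2, 3, 4].any fun j =>
      (movL true).all fun v => wd true h (b0^[j] v) == wd true w (wd true h v)) = true := by decide +kernel

theorem five_any : (wdList.all fun w => !((movL true).all fun v => (wd true w)^[5] v == v) ||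
    ((movL true).all fun v => wd true w v == v) || wdList.any fun h =>
      ((movL true ++ movL false).all fun v => wd true h (wd true w v) == b0 (wd true h v)) ||
      ((movL true ++ movL false).all fun v =>
        g2n 17 136 (wd true h (wd true w v)) == b0 (g2n 17 136 (wd true h v)))) = true := by
  decide +kernel

theorem first_trans : ((singL false).all fun p => wdList.any fun w => wd false w 1 == p) = true := by
  decide +kernel

theorem invol_word : (wdList.any fun w => [1, 2, 4, 8, 16, 32, 64, 128].all fun v =>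
    wd false w v == sgn 34 v) = true := by decide +kernel

theorem sg_span : ∀ u ∈ spanL true, Bn u 1 = false ∧ sgn u 34 = 34 ∧ sgn u 100 = 100 := by decide +kernel

theorem sg_lift : ((List.range 256).all fun x => !(Bn x 1 && !(qn x) && !(Bn x 34) && !(Bn x 100)) ||
    (spanL true).any fun u => sgn u 16 == x) = true := by decide +kernel

theorem sg_inj : ((spanL true).all fun u => (spanL true).all fun u' => (u == u') ||
    !(sgn u 16 == sgn u' 16)) = true := by decide +kernel

theorem sg_norm : ((List.range 256).all fun v => !(!(Bn v 1) && sgn v 34 == 34 && sgn v 100 == 100) ||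
    (spanL true).any fun u => u == v || (u ^^^ 1) == v) = true := by decide +kernel

theorem sg_triv : ((List.range 256).all fun v => !(!(Bn v 1) && sgn v 16 == 16 && sgn v 34 == 34 && sgn v 100 == 100) ||
    v == 0 || v == 1) = true := by decide +kernel

theorem five_modulo : (wdList.all fun w => !((movL true).all fun v =>
    ((wd true w)^[5] v ^^^ v == 0) || ((wd true w)^[5] v ^^^ v == 1)) ||
      (movL true).all fun v => (wd true w)^[5] v == v) = true := by decide +kernel

end Cfsg.Agent.CoOneFive
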