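import Cfsg.Agent.CoOneFive.Cent
import Cfsg.Agent.CoOneType.Build

/-!
The component of the centraliser and its centraliser, from the hypotheses.
-/

set_option autoImplicit false
set_option linter.all false
set_option maxRecDepth 100000
set_option maxHeartbeats 1000000

open Cfsg Cfsg.Agent.ThreeTrans.OrthCohom Cfsg.Agent.Classical.Quad QuadraticMap Cfsg.Agent.LargeExtra

namespace Cfsg.Agent.CoOneFive

open Cfsg.Agent.CoOneType

variable {G : Type*} [Group G] [Finite G] {z : G}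

theorem conclusion {S : CoOne z} {b : G} (h : Std5 S b) (C : Subgroup G) (hC : C = Cy b) :
    Cfsg.Spor.IsoJ2 ↥(Cfsg.layer ↥C) ∧
      Nonempty (↥(Subgroup.centralizer (((Cfsg.layer ↥C).map C.subtype : Subgroup G) : Set G)) ≃*
        alternatingGroup (Fin 5)) := by
  subst hC
  obtain ⟨w, n, M⟩ := exists_move h
  rw [layer_Cy h]
  refine ⟨?_, ?_⟩
  · obtain ⟨e, -⟩ := exists_derived_equiv h
    obtain ⟨e'⟩ := iso_J2 h
    exact ⟨e.trans e'⟩
  · rw [derived_eq h M, centralizer_HG h M]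
    exact iso_R h M

theorem exists_std (z : G) (hz : orderOf z = 2) (Q : Subgroup (Subgroup.centralizer ({z} : Set G))) [Q.Normal]
    (hF : generalizedFittingSubgroup (Subgroup.centralizer ({z} : Set G)) = Q) (hQ : IsExtraspecial 2 Q)
    (hcard : Nat.card Q = 2 ^ 9)
    (e : (Subgroup.centralizer ({z} : Set G)) ⧸ Q ≃* Omega (ZMod 2) (quadFormPlus 4 (ZMod 2)))
    (hnwc : ∃ g : G, (∃ hq : g * z * g⁻¹ ∈ Subgroup.centralizer ({z} : Set G),
      (⟨g * z * g⁻¹, hq⟩ : Subgroup.centralizer ({z} : Set G)) ∈ Q) ∧ g * z * g⁻¹ ≠ z)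
    (B : Subgroup (Subgroup.centralizer ({z} : Set G))) (hB : Nat.card B = 5)
    (hCQ : IsExtraspecial 2 ↥(Q ⊓ Subgroup.centralizer (B : Set (Subgroup.centralizer ({z} : Set G)))))
    (hCQcard : Nat.card ↥(Q ⊓ Subgroup.centralizer (B : Set (Subgroup.centralizer ({z} : Set G)))) = 32) :
    ∃ (S : CoOne z) (b : G), Std5 S b ∧
      B.map (Subgroup.subtype _) = Subgroup.zpowers b := by
  classical
  haveI : Fact (Nat.Prime 2) := ⟨Nat.prime_two⟩
  haveI : Fact (Nat.Prime 5) := ⟨by norm_num⟩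
  obtain ⟨S⟩ := exists_co z hz Q hF hQ hcard e hnwc
  have hO : pCore 2 ↥(Cz z) = Q := by
    refine le_antisymm ?_ ?_
    · rw [← hF]
      exact (Core.pCore_le_fittingSubgroup 2).trans le_sup_right
    · exact Core.le_pCore (IsPGroup.of_card hcard)
  have hoc : oc z = Q.map (Cz z).subtype := by rw [oc, hO]
  haveI : Nontrivial B := Finite.one_lt_card_iff_nontrivial.1 (by rw [hB]; norm_num)
  obtain ⟨g, hg⟩ := exists_ne (1 : B)
  obtain ⟨b, hb⟩ : ∃ b, b = ((g : ↥(Cz z)) : G) := ⟨_, rfl⟩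
  have og : orderOf b = 5 := by
    rw [hb, Subgroup.orderOf_coe, Subgroup.orderOf_coe]
    have hd : orderOf g ∣ 5 := hB ▸ orderOf_dvd_natCard g
    exact ((Nat.dvd_prime (by norm_num)).1 hd).resolve_left fun e => hg (orderOf_eq_one_iff.1 e)
  have hBz : B.map (Subgroup.subtype _) = Subgroup.zpowers b := by
    refine (Subgroup.eq_of_le_of_card_ge (Subgroup.zpowers_le.2 ?_) ?_).symm
    · exact hb ▸ Subgroup.mem_map_of_mem _ g.2
    · rw [Nat.card_zpowers, og, ← Nat.card_congr (B.equivMapOfInjective _ (Cz z).subtype_injective).toEquiv, hB]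
  have bz : b * z = z * b := hb ▸ Subgroup.mem_centralizer_singleton_iff.1 (g : ↥(Cz z)).2
  have b5 : b ^ 5 = 1 := og ▸ pow_orderOf_eq_one b
  have b1 : b ≠ 1 := fun e => by rw [e, orderOf_one] at og; norm_num at og
  have hmap : (Q ⊓ Subgroup.centralizer (B : Set (Subgroup.centralizer ({z} : Set G)))).map (Cz z).subtype =
      oc z ⊓ Cy b := by
    ext a
    constructor
    · rintro ⟨c, ⟨hcQ, hcB⟩, rfl⟩
      refine ⟨hoc ▸ Subgroup.mem_map_of_mem _ hcQ, mem_Cy.2 ?_⟩
      have := Subgroup.mem_centralizer_iff.1 hcB _ g.2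
      rw [hb]
      exact (congrArg Subtype.val this).symm
    · rintro ⟨ha, hab⟩
      rw [hoc] at ha
      obtain ⟨c, hc, rfl⟩ := ha
      refine ⟨c, ⟨hc, Subgroup.mem_centralizer_iff.2 fun x hx => Subtype.ext ?_⟩, rfl⟩
      obtain ⟨k, hk⟩ := Subgroup.mem_zpowers_iff.1 (hBz ▸ Subgroup.mem_map_of_mem _ hx :
        (Subgroup.subtype (Cz z)) x ∈ Subgroup.zpowers b)
      show (x : G) * (c : G) = (c : G) * (x : G)
      rw [show (x : G) = b ^ k from hk.symm]
      exact ((show Commute b (c : G) from (mem_Cy.1 hab).symm).zpow_left k).eq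
  let eQ := ((Q ⊓ Subgroup.centralizer (B : Set (Subgroup.centralizer ({z} : Set G)))).equivMapOfInjective _
    (Cz z).subtype_injective).trans (MulEquiv.subgroupCongr hmap)
  have hcard1 : Nat.card ↥(oc z ⊓ Cy b) = 32 := by rw [← Nat.card_congr eQ.toEquiv, hCQcard]
  have hes : IsExtraspecial 2 ↥(oc z ⊓ Cy b) := LargeExtra.extraspecial_congr eQ hCQ
  obtain ⟨a, ⟨ha, hab⟩, a1, az⟩ : ∃ a ∈ oc z ⊓ Cy b, a ≠ 1 ∧ a ≠ z := by
    by_contra hc
    push Not at hc
    have hle : Nat.card ↥(oc z ⊓ Cy b) ≤ Nat.card (Fin 2) := by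
      refine Nat.card_le_card_of_injective (fun x => if (x : G) = 1 then 0 else 1) fun x y e => Subtype.ext ?_
      by_cases hx : (x : G) = 1 <;> by_cases hy : (y : G) = 1 <;> simp [hx, hy] at e ⊢
      exact Subtype.ext ((hc x x.2 hx).trans (hc y y.2 hy).symm)
    rw [hcard1, Nat.card_fin] at hle
    omega
  obtain ⟨c, dc', ec⟩ := normal_form (S.act_even b bz) (by rw [← act_pow S bz, b5, S.act_one])
    (fun e => b1 (eq_one_of_act S bz b5 e))
    ((comm_iff_fixed S bz b5 ha).1 (mem_Cy.1 hab).symm)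
    (fun e => (S.pr_ker a ha e).elim a1 az)
  obtain ⟨S', hS'⟩ := rebase S dc'
  exact ⟨S', b, ⟨bz, b5, by rw [hS', ec], hes, hcard1⟩, hBz⟩

theorem centralizer_zpowers (y : G) :
    Subgroup.centralizer ((Subgroup.zpowers y : Subgroup G) : Set G) = Cy y := by
  rw [Subgroup.zpowers_eq_closure, Subgroup.centralizer_closure]

end Cfsg.Agent.CoOneFive
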