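import Cfsg.Agent.CoOneFive.Act
import Cfsg.Agent.CoOneType.Orbit

/-!
Isometries of order five with a fixed vector.
-/

set_option autoImplicit false
set_option maxRecDepth 100000
set_option maxHeartbeats 1000000

open Cfsg.Agent.ThreeTrans.OrthCohom Cfsg.Agent.Classical.Quad QuadraticMap Module

namespace Cfsg.Agent.CoOneFive

open Cfsg.Agent.CoOneType

/-- The standard element of order five. -/
noncomputable def B0 : O := Gen true 0

theorem B0_code : IsCode B0 b0 := (Gen_spec true 0).2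

theorem B0_even : dsign B0 = 1 := (Gen_spec true 0).1

theorem B0_row {v : ℕ} (hv : v < 256) : b0 (b0 (b0 (b0 (b0 v)))) = v ∧ (b0 v = v ↔ v ∈ spanL false) ∧
    b1 (b1 (b1 (b1 (b1 v)))) = v := by
  have t := List.all_eq_true.1 b0_facts v (List.mem_range.2 hv)
  simp only [Bool.and_eq_true, beq_iff_eq] at t
  refine ⟨t.1.1, ?_, t.2⟩
  have h := t.1.2
  constructor
  · intro e
    rw [e, beq_self_eq_true] at h
    exact List.contains_iff_mem.1 h.symm
  · intro e
    rw [List.contains_iff_mem.2 e, beq_iff_eq] at h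
    exact h

theorem B0_five : B0 ^ 5 = 1 :=
  IsCode.eq (B0_code.pow 5) IsCode.one fun k v hv => (B0_row (movL_lt k hv)).1

theorem B0_fix {x : V} : B0.1 x = x ↔ ∃ v ∈ spanL false, x = dc v := by
  constructor
  · intro h
    refine ⟨(cd x).val, (B0_row (cd x).isLt).2.1.1 (dc_inj (B0_code _ (cd x).isLt).1 (cd x).isLt ?_), (dc_cd x).symm⟩
    rw [← (B0_code _ (cd x).isLt).2, dc_cd, h]
  · rintro ⟨v, hv, rfl⟩
    rw [(B0_code v (span_lt _ v hv)).2, (B0_row (span_lt _ v hv)).2.1.2 hv]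

/-- The number of fixed points of a map of order dividing five. -/
theorem fix_modEq {α : Type*} [Finite α] (σ : α → α) (h5 : ∀ a, σ (σ (σ (σ (σ a)))) = a) :
    Nat.card α ≡ Nat.card {a // σ a = a} [MOD 5] := by
  classical
  haveI : Fact (Nat.Prime 5) := ⟨by norm_num⟩
  haveI := Fintype.ofFinite α
  let τ : Function.End α := σ
  have h : τ ^ 5 ^ 1 = 1 := funext h5
  have := Equiv.Perm.card_fixedPoints_modEq h
  rw [Nat.card_eq_fintype_card, Nat.card_eq_fintype_card]
  convert this using 2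
  all_goals first | rfl | exact Subsingleton.elim _ _

theorem apply_five {g : O} (g5 : g ^ 5 = 1) (x : V) : g.1 (g.1 (g.1 (g.1 (g.1 x)))) = x := by
  rw [← oG_mul_apply, ← oG_mul_apply, ← oG_mul_apply, ← oG_mul_apply,
    show g * g * g * g * g = g ^ 5 by rw [pow_succ, pow_succ, pow_succ, pow_two], g5, oG_one_apply]

/-- The fixed space is not degenerate. -/
theorem fix_nondeg {g : O} (g5 : g ^ 5 = 1) {x : V} (hx : g.1 x = x)
    (h : ∀ y, g.1 y = y → Bp x y = 0) : x = 0 := by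
  refine eq_zero_of_polar nondegP4 fun y => ?_
  show Bp x y = 0
  obtain ⟨s, hs⟩ : ∃ s, s = y + g.1 y + g.1 (g.1 y) + g.1 (g.1 (g.1 y)) + g.1 (g.1 (g.1 (g.1 y))) := ⟨_, rfl⟩
  have hgs : g.1 s = s := by
    rw [hs]
    simp only [map_add, apply_five g5]
    abel
  have hstep : ∀ u, Bp x (g.1 u) = Bp x u := fun u => by
    conv_lhs => rw [← hx]
    exact polar_g g x u
  have := h s hgs
  rw [hs] at this
  simp only [Bp_add_right, hstep] at this
  have key : ∀ a : ZMod 2, a + a + a + a + a = 0 → a = 0 := by decide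
  exact key _ this

theorem card_fix {g : O} (g5 : g ^ 5 = 1) (g1 : g ≠ 1) {v : V} (hv : g.1 v = v) (v0 : v ≠ 0) :
    Nat.card {x : V // g.1 x = x} = 16 := by
  have hm := fix_modEq (fun x : V => g.1 x) (apply_five g5)
  have hV : Nat.card V = 256 := by simp
  rw [hV] at hm
  let F : AddSubgroup V :=
    { carrier := {x | g.1 x = x}
      zero_mem' := map_zero g.1
      add_mem' := fun {a b} ha hb => by
        show g.1 (a + b) = a + b
        rw [map_add, show g.1 a = a from ha, show g.1 b = b from hb]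
      neg_mem' := fun {a} ha => by
        show g.1 (-a) = -a
        rw [map_neg, show g.1 a = a from ha] }
  have hF : Nat.card F = Nat.card {x : V // g.1 x = x} := rfl
  have hd : Nat.card {x : V // g.1 x = x} ∣ 2 ^ 8 := by
    rw [← hF, show (2 : ℕ) ^ 8 = Nat.card V by rw [hV]; norm_num]
    exact AddSubgroup.card_addSubgroup_dvd_card F
  obtain ⟨j, hj, e⟩ := (Nat.dvd_prime_pow Nat.prime_two).1 hd
  have h2 : 2 ≤ Nat.card {x : V // g.1 x = x} := by
    have : Function.Injective (fun b : Bool => (if b then ⟨v, hv⟩ else ⟨0, map_zero _⟩ : {x : V // g.1 x = x})) := by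
      intro a b h
      cases a <;> cases b <;> simp at h ⊢
      · exact v0 h.symm
      · exact v0 h
    simpa using Nat.card_le_card_of_injective _ this
  rw [e] at hm h2 ⊢
  interval_cases j <;> first | rfl | (exact absurd h2 (by decide)) | (exact absurd hm (by decide)) | skip
  exfalso
  refine g1 (ext_oG fun x => ?_)
  rw [oG_one_apply]
  obtain ⟨⟨y, hy⟩, rfl⟩ := ((Nat.bijective_iff_injective_and_card (fun p : {x : V // g.1 x = x} => p.1)).2
    ⟨Subtype.val_injective, by rw [e, hV]; norm_num⟩).2 x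
  exact hy

/-- A combination of four vectors. -/
noncomputable def comb (f : Fin 4 → V) (x : Fin 4 → ZMod 2) : V :=
  x 0 • f 0 + x 1 • f 1 + (x 2 • f 2 + x 3 • f 3)

/-- Four vectors consisting of a hyperbolic pair and a pair of norm `e`. -/
structure Gram (f : Fin 4 → V) (e : ZMod 2) : Prop where
  q0 : qP 4 (f 0) = 0
  q1 : qP 4 (f 1) = 0
  q2 : qP 4 (f 2) = e
  q3 : qP 4 (f 3) = e
  b01 : Bp (f 0) (f 1) = 1
  b23 : Bp (f 2) (f 3) = 1
  b02 : Bp (f 0) (f 2) = 0
  b03 : Bp (f 0) (f 3) = 0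
  b12 : Bp (f 1) (f 2) = 0
  b13 : Bp (f 1) (f 3) = 0

namespace Gram

variable {f : Fin 4 → V} {e : ZMod 2} (h : Gram f e)
include h

theorem q_comb (x : Fin 4 → ZMod 2) :
    qP 4 (comb f x) = x 0 * x 1 + (x 2 * e + x 3 * e + x 2 * x 3) := by
  simp only [comb, q_add, q_smul, Bp_add_left, Bp_add_right, Bp_smul_left, Bp_smul_right, h.q0, h.q1, h.q2, h.q3,
    h.b01, h.b23, h.b02, h.b03, h.b12, h.b13]
  ring

theorem Bp_comb (x : Fin 4 → ZMod 2) : Bp (comb f x) (f 0) = x 1 ∧ Bp (comb f x) (f 1) = x 0 ∧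
    Bp (comb f x) (f 2) = x 3 ∧ Bp (comb f x) (f 3) = x 2 := by
  simp only [comb, Bp_add_left, Bp_smul_left, Bp_comm (f 1) (f 0), Bp_comm (f 2) (f 0), Bp_comm (f 3) (f 0),
    Bp_comm (f 2) (f 1), Bp_comm (f 3) (f 1), Bp_comm (f 3) (f 2), Bp_self, h.b01, h.b23, h.b02, h.b03, h.b12, h.b13,
    mul_zero, mul_one, add_zero, zero_add, and_self]

theorem comb_inj : Function.Injective (comb f) := by
  intro x y hxy
  obtain ⟨a0, a1, a2, a3⟩ := h.Bp_comb x
  obtain ⟨b0', b1', b2', b3'⟩ := h.Bp_comb y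
  funext i
  fin_cases i
  · exact a1.symm.trans (hxy ▸ b1')
  · exact a0.symm.trans (hxy ▸ b0')
  · exact a3.symm.trans (hxy ▸ b3')
  · exact a2.symm.trans (hxy ▸ b2')

theorem indep : LinearIndependent (ZMod 2) f := by
  refine Fintype.linearIndependent_iff.2 fun c hc i => ?_
  have e0 : comb f c = comb f 0 := by
    rw [Fin.sum_univ_four] at hc
    simp only [comb, Pi.zero_apply, zero_smul, add_zero]
    rw [← add_assoc]
    exact hc
  rw [h.comb_inj e0]
  rfl

end Gram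

/-- Coordinates in the fixed space. -/
theorem exists_gram {g : O} (g5 : g ^ 5 = 1) (g1 : g ≠ 1) {v : V} (hv : g.1 v = v) (v0 : v ≠ 0) :
    ∃ f : Fin 4 → V, Gram f 1 ∧ (∀ x, g.1 (comb f x) = comb f x) ∧ ∀ y, g.1 y = y → ∃ x, comb f x = y := by
  classical
  have hcard := card_fix g5 g1 hv v0
  -- the singular fixed vectors
  obtain ⟨T, hT⟩ : ∃ T : Set V, T = {x | qP 4 x = 0 ∧ x ≠ 0} := ⟨_, rfl⟩
  have hTc : Nat.card {x : V // qP 4 x = 0 ∧ x ≠ 0} = 135 := by
    rw [← CoOneType.sing_card, ← Nat.card_eq_fintype_card]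
    refine (Nat.card_congr (Equiv.ofBijective (fun i : {i : Fin 256 // i.val ≠ 0 ∧ qn i.val = false} =>
      (⟨dc i.1.val, by rw [q_dc i.1.isLt, i.2.2]; rfl, fun e => i.2.1 (dc_inj i.1.isLt (by norm_num)
        (e.trans dc_zero.symm))⟩ : {x : V // qP 4 x = 0 ∧ x ≠ 0})) ⟨fun a b e => ?_, fun x => ?_⟩)).symm
    · exact Subtype.ext (Fin.ext (dc_inj a.1.isLt b.1.isLt (congrArg Subtype.val e)))
    · refine ⟨⟨cd x.1, fun e => x.2.2 (by rw [← dc_cd x.1, e, dc_zero]), ?_⟩, Subtype.ext (dc_cd x.1)⟩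
      exact (bz_eq_zero _).1 (by rw [← q_dc (cd x.1).isLt, dc_cd, x.2.1])
  have hσ : ∀ x : {x : V // qP 4 x = 0 ∧ x ≠ 0}, qP 4 (g.1 x.1) = 0 ∧ g.1 x.1 ≠ 0 := fun x =>
    ⟨by rw [g.2]; exact x.2.1, fun e => x.2.2 (g.1.map_eq_zero_iff.1 e)⟩
  have hmod := fix_modEq (fun x : {x : V // qP 4 x = 0 ∧ x ≠ 0} => (⟨g.1 x.1, hσ x⟩ : {x : V // qP 4 x = 0 ∧ x ≠ 0}))
    (fun x => Subtype.ext (apply_five g5 x.1))
  rw [hTc] at hmod
  have surj : ∀ {f : Fin 4 → V} {e : ZMod 2}, Gram f e → (∀ i, g.1 (f i) = f i) →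
      (∀ x, g.1 (comb f x) = comb f x) ∧ ∀ y, g.1 y = y → ∃ x, comb f x = y := by
    intro f e hG hf
    have hin : ∀ x, g.1 (comb f x) = comb f x := fun x => by simp only [comb, map_add, map_smul, hf]
    refine ⟨hin, fun y hy => ?_⟩
    obtain ⟨x, hx⟩ := ((Nat.bijective_iff_injective_and_card (fun x => (⟨comb f x, hin x⟩ : {x : V // g.1 x = x}))).2
      ⟨fun a b h => hG.comb_inj (congrArg Subtype.val h), by rw [hcard]; simp⟩).2 ⟨y, hy⟩
    exact ⟨x, congrArg Subtype.val hx⟩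
  -- no hyperbolic coordinates
  have noplus : ∀ f : Fin 4 → V, Gram f 0 → (∀ i, g.1 (f i) = f i) → False := by
    intro f hG hf
    obtain ⟨hin, hs⟩ := surj hG hf
    have h9 : Nat.card {x : {x : V // qP 4 x = 0 ∧ x ≠ 0} // (⟨g.1 x.1, hσ x⟩ : {x : V // qP 4 x = 0 ∧ x ≠ 0}) = x} =
        Nat.card {x : Fin 4 → ZMod 2 // x 0 * x 1 + (x 2 * 0 + x 3 * 0 + x 2 * x 3) = 0 ∧ x ≠ 0} := by
      have hz : comb f 0 = 0 := by simp [comb]
      refine (Nat.card_congr (Equiv.ofBijective (fun x => ⟨⟨comb f x.1, by rw [hG.q_comb]; exact x.2.1,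
        fun e => x.2.2 (hG.comb_inj (e.trans hz.symm))⟩, Subtype.ext (hin x.1)⟩) ⟨fun a b e => ?_, fun y => ?_⟩)).symm
      · exact Subtype.ext (hG.comb_inj (congrArg (fun t => t.1.1) e))
      · obtain ⟨x, hx⟩ := hs y.1.1 (congrArg Subtype.val y.2)
        exact ⟨⟨x, by rw [← hG.q_comb, hx]; exact y.1.2.1, fun e => y.1.2.2 (by rw [← hx, e, hz])⟩,
          Subtype.ext (Subtype.ext hx)⟩
    rw [h9, Nat.card_eq_fintype_card] at hmod
    revert hmod
    decide +kernel
  have hex : ∀ x, g.1 x = x → x ≠ 0 → ∃ y, g.1 y = y ∧ Bp x y = 1 := by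
    intro x hx x0
    by_contra hc
    push Not at hc
    exact x0 (fix_nondeg g5 hx fun y hy => (zmod_cases _).resolve_right (hc y hy))
  have fadd : ∀ {x y : V}, g.1 x = x → g.1 y = y → g.1 (x + y) = x + y := fun hx hy => by rw [map_add, hx, hy]
  have fsmul : ∀ (c : ZMod 2) {x : V}, g.1 x = x → g.1 (c • x) = c • x := fun c x hx => by rw [map_smul, hx]
  -- orthogonal complement of a pair
  have hperp : ∀ p p', g.1 p = p → g.1 p' = p' → Bp p p' = 1 →
      ∃ r r', g.1 r = r ∧ g.1 r' = r' ∧ Bp r p = 0 ∧ Bp r p' = 0 ∧ Bp r' p = 0 ∧ Bp r' p' = 0 ∧ Bp r r' = 1 := by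
    intro p p' hp hp' hpp
    have proj : ∀ y, g.1 y = y → g.1 (y + (Bp y p' • p + Bp y p • p')) = y + (Bp y p' • p + Bp y p • p') ∧
        Bp (y + (Bp y p' • p + Bp y p • p')) p = 0 ∧ Bp (y + (Bp y p' • p + Bp y p • p')) p' = 0 := by
      intro y hy
      refine ⟨fadd hy (fadd (fsmul _ hp) (fsmul _ hp')), ?_, ?_⟩ <;>
        simp only [Bp_add_left, Bp_smul_left, Bp_self, hpp, Bp_comm p' p, mul_zero, mul_one, add_zero, zero_add]
      · exact two_zero _
      · exact two_zero _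
    obtain ⟨r, hr, hrp, hrp', r0⟩ : ∃ r, g.1 r = r ∧ Bp r p = 0 ∧ Bp r p' = 0 ∧ r ≠ 0 := by
      by_contra hc
      push Not at hc
      have hle : Nat.card {x : V // g.1 x = x} ≤ Nat.card (ZMod 2 × ZMod 2) := by
        refine Nat.card_le_card_of_injective (fun x => (Bp x.1 p, Bp x.1 p')) fun a b e => Subtype.ext ?_
        obtain ⟨h1, h2, h3⟩ := proj (a.1 + b.1) (fadd a.2 b.2)
        have := hc _ h1 h2 h3
        rw [Bp_add_left, Bp_add_left, (show Bp a.1 p = Bp b.1 p from congrArg Prod.fst e), (show Bp a.1 p' = Bp b.1 p' from congrArg Prod.snd e), two_zero, two_zero, zero_smul,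
          zero_smul, add_zero, add_zero] at this
        exact v_eq_of_add this
      rw [hcard, Nat.card_prod] at hle
      simp at hle
    obtain ⟨y, hy, hry⟩ := hex r hr r0
    obtain ⟨h1, h2, h3⟩ := proj y hy
    exact ⟨r, _, hr, h1, hrp, hrp', h2, h3, by
      simp only [Bp_add_right, Bp_smul_right, hrp, hrp', hry, mul_zero, add_zero]⟩
  -- a singular vector
  obtain ⟨p, hp, p0, pq⟩ : ∃ p, g.1 p = p ∧ p ≠ 0 ∧ qP 4 p = 0 := by
    by_contra hc
    push Not at hc
    have one : ∀ x, g.1 x = x → x ≠ 0 → qP 4 x = 1 := fun x hx x0 => (zmod_cases _).resolve_left (hc x hx x0)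
    obtain ⟨p', hp', hpp⟩ := hex v hv v0
    obtain ⟨r, r', hr, hr', h1, h2, -, -, hrr⟩ := hperp v p' hv hp' hpp
    have r0 : r ≠ 0 := fun e => by rw [e, Bp_zero_left] at hrr; exact zero_ne_one hrr
    have hvr : v + r ≠ 0 := fun e => by
      rw [v_eq_of_add e, h2] at hpp
      exact zero_ne_one hpp
    have := one _ (fadd hv hr) hvr
    rw [q_add, one v hv v0, one r hr r0, Bp_comm, h1] at this
    revert this
    decide
  obtain ⟨p', hp', hpp, pq'⟩ : ∃ p', g.1 p' = p' ∧ Bp p p' = 1 ∧ qP 4 p' = 0 := by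
    obtain ⟨y, hy, hpy⟩ := hex p hp p0
    rcases zmod_cases (qP 4 y) with e | e
    · exact ⟨y, hy, hpy, e⟩
    · refine ⟨y + p, fadd hy hp, by rw [Bp_add_right, hpy, Bp_self, add_zero], ?_⟩
      rw [q_add, e, pq, Bp_comm, hpy]
      decide
  obtain ⟨r, r', hr, hr', h1, h2, h3, h4, hrr⟩ := hperp p p' hp hp' hpp
  have hrs : g.1 (r + r') = r + r' := fadd hr hr'
  -- none of the three vectors of the complement is singular
  have bad : ∀ a b, g.1 a = a → g.1 b = b → qP 4 a = 0 → Bp a b = 1 → Bp a p = 0 → Bp a p' = 0 → Bp b p = 0 →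
      Bp b p' = 0 → False := by
    intro a b ha hb aq hab a1 a2 b1' b2'
    obtain ⟨b', hb', bq, hab', c1, c2⟩ : ∃ b', g.1 b' = b' ∧ qP 4 b' = 0 ∧ Bp a b' = 1 ∧ Bp b' p = 0 ∧ Bp b' p' = 0 := by
      rcases zmod_cases (qP 4 b) with e | e
      · exact ⟨b, hb, e, hab, b1', b2'⟩
      · refine ⟨b + a, fadd hb ha, ?_, by rw [Bp_add_right, hab, Bp_self, add_zero],
          by rw [Bp_add_left, b1', a1, add_zero], by rw [Bp_add_left, b2', a2, add_zero]⟩
        rw [q_add, e, aq, Bp_comm, hab]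
        decide
    exact noplus ![p, p', a, b'] ⟨pq, pq', aq, bq, hpp, hab', (Bp_comm _ _).trans a1, (Bp_comm _ _).trans c1,
      (Bp_comm _ _).trans a2, (Bp_comm _ _).trans c2⟩ (fun i => by fin_cases i <;> assumption)
  have qr : qP 4 r = 1 := (zmod_cases _).resolve_left fun e => bad r r' hr hr' e hrr h1 h2 h3 h4
  have qr' : qP 4 r' = 1 := (zmod_cases _).resolve_left fun e => bad r' r hr' hr e ((Bp_comm _ _).trans hrr) h3 h4 h1 h2
  have hG : Gram ![p, p', r, r'] 1 := ⟨pq, pq', qr, qr', hpp, hrr, (Bp_comm _ _).trans h1, (Bp_comm _ _).trans h3,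
    (Bp_comm _ _).trans h2, (Bp_comm _ _).trans h4⟩
  exact ⟨_, hG, surj hG (fun i => by fin_cases i <;> assumption)⟩

/-- All these elements are conjugate to the standard one. -/
theorem normal_form {g : O} (gd : dsign g = 1) (g5 : g ^ 5 = 1) (g1 : g ≠ 1) {v : V} (hv : g.1 v = v)
    (v0 : v ≠ 0) : ∃ c : O, dsign c = 1 ∧ c * g * c⁻¹ = B0 := by
  classical
  obtain ⟨f, hG, hfix, -⟩ := exists_gram g5 g1 hv v0
  let f0 : Fin 4 → V := ![dc 1, dc 16, dc 34, dc 100]
  have h0 : Gram f0 1 := by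
    constructor <;> simp only [f0, Matrix.cons_val] <;>
      first
        | rw [q_dc (by norm_num)]; rfl
        | rw [Bp_dc (by norm_num) (by norm_num)]; rfl
  have hfi : ∀ i, g.1 (f i) = f i := fun i => by
    have hi := hfix fun j => if j = i then 1 else 0
    fin_cases i <;> simpa [comb] using hi
  obtain ⟨c₀, hc₀, hcf⟩ := witt_family nondegP4 4 f f0 hG.indep h0.indep
    (fun i => by fin_cases i <;> simp only [hG.q0, hG.q1, hG.q2, hG.q3, h0.q0, h0.q1, h0.q2, h0.q3, Fin.zero_eta, Fin.mk_one, Fin.reduceFinMk])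
    (fun i j => by
      show Bp (f i) (f j) = Bp (f0 i) (f0 j)
      fin_cases i <;> fin_cases j <;>
        simp only [Fin.zero_eta, Fin.mk_one, Fin.reduceFinMk, Bp_self, hG.b01, hG.b23, hG.b02, hG.b03, hG.b12, hG.b13, h0.b01, h0.b23,
          h0.b02, h0.b03, h0.b12, h0.b13, Bp_comm (f 1) (f 0), Bp_comm (f 2) (f 0), Bp_comm (f 3) (f 0),
          Bp_comm (f 2) (f 1), Bp_comm (f 3) (f 1), Bp_comm (f 3) (f 2), Bp_comm (f0 1) (f0 0), Bp_comm (f0 2) (f0 0),
          Bp_comm (f0 3) (f0 0), Bp_comm (f0 2) (f0 1), Bp_comm (f0 3) (f0 1), Bp_comm (f0 3) (f0 2)])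
  -- make it even
  have hq : qP 4 (dc (oddR true)) = 1 := by rw [q_dc (by decide)]; rfl
  obtain ⟨c, hc, hcf'⟩ : ∃ c : O, dsign c = 1 ∧ ∀ i, c.1 (f i) = f0 i := by
    rcases Int.units_eq_one_or (dsign (⟨c₀, hc₀⟩ : O)) with e | e
    · exact ⟨_, e, hcf⟩
    · have hne : qP 4 (dc (oddR true)) ≠ 0 := by rw [hq]; exact one_ne_zero
      refine ⟨rO hne * ⟨c₀, hc₀⟩, ?_, fun i => ?_⟩
      · rw [dsign_mulO, e, ← one_mul (rO hne), dsign_mul_rO nondegP4, dsign_one]
        decide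
      · rw [oG_mul_apply, show (⟨c₀, hc₀⟩ : O).1 (f i) = f0 i from hcf i, refl_apply hq]
        fin_cases i <;>
        · simp only [Fin.zero_eta, Fin.mk_one, Fin.reduceFinMk, f0, Matrix.cons_val]
          rw [Bp_dc (by norm_num) (by decide)]
          simp [bz, oddR, show Bn 1 136 = false from rfl, show Bn 16 136 = false from rfl,
            show Bn 34 136 = false from rfl, show Bn 100 136 = false from rfl]
  obtain ⟨g', hg'⟩ : ∃ g', g' = c * g * c⁻¹ := ⟨_, rfl⟩
  have hmem : g' ∈ AG true := by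
    refine ⟨by rw [hg', dsign_mulO, dsign_mulO, hc, gd, dsign_invO hc]; rfl, ?_⟩
    have key : ∀ i, g'.1 (f0 i) = f0 i := fun i => by
      rw [hg', oG_mul_apply, oG_mul_apply, ← hcf' i, oG_inv_apply, hfi]
    intro w hw
    simp only [fixL, movL, Bool.not_true, cond_false, List.mem_cons, List.not_mem_nil, or_false] at hw
    rcases hw with rfl | rfl | rfl | rfl
    exacts [key 0, key 1, key 2, key 3]
  have g5' : g' ^ 5 = 1 := by rw [hg', conj_pow, g5, mul_one, mul_inv_cancel]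
  have g1' : g' ≠ 1 := fun e => g1 (by rw [hg'] at e; exact conj_eq_one_iff.1 e)
  obtain ⟨w, rfl⟩ := exists_word true hmem
  have t := List.all_eq_true.1 five_any w (mem_wdList w)
  have h5 : ((movL true).all fun v => (wd true w)^[5] v == v) = true := List.all_eq_true.2 fun v hv => beq_iff_eq.2 (by
    refine dc_inj (((Wel_code true w).pow 5) v (movL_lt _ hv)).1 (movL_lt _ hv) ?_
    rw [← (((Wel_code true w).pow 5) v (movL_lt _ hv)).2, g5', oG_one_apply])
  have hne : ((movL true).all fun v => wd true w v == v) = false := by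
    rw [Bool.eq_false_iff]
    intro hall
    refine g1' (ext_movL fun k v hv => ?_)
    rw [oG_one_apply]
    cases k
    · exact hmem.2 v hv
    · rw [((Wel_code true w) v (movL_lt _ hv)).2, beq_iff_eq.1 (List.all_eq_true.1 hall v hv)]
  rw [h5, hne, Bool.not_true, Bool.false_or, Bool.false_or] at t
  obtain ⟨h, -, hh⟩ := List.any_eq_true.1 t
  have hin : ∀ (k : Bool) {v}, v ∈ movL k → v ∈ movL true ++ movL false := fun k v hv => by
    cases k
    · exact List.mem_append_right _ hv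
    · exact List.mem_append_left _ hv
  rcases Bool.or_eq_true_iff.1 hh with hh | hh
  · refine ⟨Wel true h * c, by rw [dsign_mulO, Wel_even, hc, one_mul], ?_⟩
    have e : Wel true h * Wel true w = B0 * Wel true h :=
      IsCode.eq ((Wel_code true h).mul (Wel_code true w)) (B0_code.mul (Wel_code true h)) fun k v hv =>
        beq_iff_eq.1 (List.all_eq_true.1 hh v (hin k hv))
    calc Wel true h * c * g * (Wel true h * c)⁻¹ = Wel true h * (c * g * c⁻¹) * (Wel true h)⁻¹ := by group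
      _ = B0 := by rw [← hg', e, mul_inv_cancel_right]
  · obtain ⟨N, hN, hNc⟩ := exists_rrn (a := 17) (b := 136) (by norm_num) (by norm_num) (by decide) (by decide)
    have hNcode : IsCode N (g2n 17 136) := fun v hv => ⟨g2n_lt (by norm_num) (by norm_num) hv, hNc v hv⟩
    refine ⟨N * Wel true h * c, by rw [dsign_mulO, dsign_mulO, hN, Wel_even, hc]; rfl, ?_⟩
    have e : N * Wel true h * Wel true w = B0 * (N * Wel true h) :=
      IsCode.eq ((hNcode.mul (Wel_code true h)).mul (Wel_code true w)) (B0_code.mul (hNcode.mul (Wel_code true h)))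
        fun k v hv => beq_iff_eq.1 (List.all_eq_true.1 hh v (hin k hv))
    calc N * Wel true h * c * g * (N * Wel true h * c)⁻¹
        = N * Wel true h * (c * g * c⁻¹) * (N * Wel true h)⁻¹ := by group
      _ = B0 := by rw [← hg', e, mul_inv_cancel_right]

end Cfsg.Agent.CoOneFive
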