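import Cfsg.Agent.CoOneFive.Base
import Cfsg.Agent.CoOneType.Main
import Cfsg.Agent.HallJanko.Uniq.Iso
import Cfsg.Agent.HallJanko.Order
import Cfsg.Agent.JankoTwo.Simple

/-!
The quotient of the centraliser of the element of order five is a Hall–Janko group.
-/

set_option autoImplicit false
set_option linter.all false
set_option maxRecDepth 100000
set_option maxHeartbeats 1000000

open Cfsg Cfsg.Agent.ThreeTrans.OrthCohom Cfsg.Agent.Classical.Quad QuadraticMap Cfsg.Agent.LargeExtra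

namespace Cfsg.Agent.CoOneFive

open Cfsg.Agent.CoOneType

variable {G : Type*} [Group G] [Finite G] {z : G} {S : CoOne z} {b : G} (h : Std5 S b)

/-- A conjugate of `z` in the centraliser, with a conjugating element. -/
structure Move {S : CoOne z} {b : G} (h : Std5 S b) (w n : G) : Prop where
  F : S.Fr w
  nb : n * b = b * n
  nz : n * z * n⁻¹ = w
  F' : S.Fr (n⁻¹ * z * n)

include h

theorem w_comm {w : G} (F : S.Fr w) : b * w = w * b :=
  (comm_b_iff h F.mem).2 (by rw [F.pr_eq]; exact In_dc (by decide +kernel))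

theorem exists_move : ∃ w n, Move h w n := by
  obtain ⟨w, F⟩ := S.exists_fr
  obtain ⟨g, hg⟩ := F.conj
  have bw := w_comm h F
  obtain ⟨b', hb'⟩ : ∃ b', b' = g⁻¹ * b * g := ⟨_, rfl⟩
  obtain ⟨u, hu⟩ : ∃ u, u = g⁻¹ * z * g := ⟨_, rfl⟩
  have hb'z : b' * z = z * b' := by
    rw [hb']
    calc g⁻¹ * b * g * z = g⁻¹ * (b * w) * g := by rw [← hg]; group
      _ = g⁻¹ * (w * b) * g := by rw [bw]
      _ = _ := by rw [← hg]; group
  have b5' : b' ^ 5 = 1 := by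
    rw [hb', show g⁻¹ * b * g = g⁻¹ * b * g⁻¹⁻¹ by group, conj_pow, h.b5]; group
  have humem : u ∈ oc z := by
    have h1 := conj_mem_oc (g := g⁻¹) (CoOne.zmem_oc F)
    rwa [show g⁻¹ * w * g⁻¹⁻¹ = z by rw [← hg]; group, inv_inv, ← hu] at h1
  have hune : u ≠ z := fun e => by
    rw [hu] at e
    refine CoOne.w_ne_z F ?_
    calc w = g * z * g⁻¹ := hg.symm
      _ = g * (g⁻¹ * z * g) * g⁻¹ := by rw [e]
      _ = z := by group
  have hu1 : u ≠ 1 := fun e => S.zne (by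
    rw [hu] at e
    calc z = g * (g⁻¹ * z * g) * g⁻¹ := by group
      _ = 1 := by rw [e]; group)
  have hu0 : S.pr u ≠ 0 := fun e => (S.pr_ker u humem e).elim hu1 hune
  have hub : b' * u = u * b' := by
    rw [hu, hb']
    calc g⁻¹ * b * g * (g⁻¹ * z * g) = g⁻¹ * (b * z) * g := by group
      _ = _ := by rw [h.bz]; group
  obtain ⟨c, cz, ce⟩ := conj_five S h.bz hb'z h.b5 b5' (b_ne h) (fun e => b_ne h (by
      rw [hb'] at e
      calc b = g * (g⁻¹ * b * g) * g⁻¹ := by group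
        _ = 1 := by rw [e]; group))
    ⟨dc 1, fun e => absurd (dc_inj (by norm_num) (by norm_num) (e.trans dc_zero.symm)) (by norm_num),
      by rw [h.act]; exact B0_fix_In.2 (In_dc (by decide +kernel))⟩
    ⟨S.pr u, hu0, (comm_iff_fixed S hb'z b5' humem).1 hub⟩
  obtain ⟨n, hn⟩ : ∃ n, n = g * c := ⟨_, rfl⟩
  have nb : n * b = b * n := mul_inv_eq_iff_eq_mul.1 (by
    rw [hn]
    calc g * c * b * (g * c)⁻¹ = g * (c * b * c⁻¹) * g⁻¹ := by group
      _ = b := by rw [ce, hb']; group)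
  have nz : n * z * n⁻¹ = w := by
    rw [hn]
    calc g * c * z * (g * c)⁻¹ = g * (c * z) * c⁻¹ * g⁻¹ := by group
      _ = w := by rw [cz, ← hg]; group
  obtain ⟨v, hv⟩ : ∃ v, v = n⁻¹ * z * n := ⟨_, rfl⟩
  have hvz : v ∈ oc z := by
    have h1 := conj_mem_oc (g := n⁻¹) (CoOne.zmem_oc F)
    rwa [show n⁻¹ * w * n⁻¹⁻¹ = z by rw [← nz]; group, inv_inv, ← hv] at h1
  have hvne : n⁻¹ * z * (n⁻¹)⁻¹ ≠ z := fun e => by
    rw [inv_inv] at e
    refine CoOne.w_ne_z F ?_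
    calc w = n * z * n⁻¹ := nz.symm
      _ = n * (n⁻¹ * z * n) * n⁻¹ := by rw [e]
      _ = z := by group
  obtain ⟨hv0, hvq⟩ := S.pr_conj (g := n⁻¹) (by rwa [inv_inv, ← hv]) hvne
  rw [inv_inv, ← hv] at hv0 hvq
  have hvb : b * v = v * b := by
    rw [hv]
    exact (Commute.mul_right (Commute.mul_right (Commute.inv_right (show Commute b n from nb.symm)) h.bz) nb.symm).eq
  have hin := (comm_b_iff h hvz).1 hvb
  obtain ⟨i, hi, hie⟩ := In_iff.1 hin
  have hsing : i ∈ singL false := by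
    have t := beq_iff_eq.1 (List.all_eq_true.1 (List.all_eq_true.1 sing_spec false (mem_bool _)) i
      (List.mem_range.2 (span_lt _ i hi)))
    refine List.contains_iff_mem.1 (t.symm.trans ?_)
    have h0 : i ≠ 0 := fun e => hv0 (by rw [hie, e, dc_zero])
    have hq : qn i = false := (bz_eq_zero _).1 (by rw [← q_dc (span_lt _ i hi), ← hie, hvq])
    simp [hi, h0, hq]
  obtain ⟨k, -, hk⟩ := List.any_eq_true.1 (List.all_eq_true.1 first_trans i hsing)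
  rw [beq_iff_eq] at hk
  obtain ⟨l, hl, hle⟩ := lift_Lz h (Wel_mem false k)
  have hlz := hl.1
  refine ⟨w, n * l, F, (Commute.mul_left nb hl.2.1).eq, ?_, ?_, ⟨(n * l)⁻¹, by group⟩, ?_⟩
  · calc n * l * z * (n * l)⁻¹ = n * (l * z) * l⁻¹ * n⁻¹ := by group
      _ = w := by rw [hlz, ← nz]; group
  · rw [show (n * l)⁻¹ * z * (n * l) = l⁻¹ * v * l⁻¹⁻¹ by rw [hv]; group]
    exact S.nrm (Commute.inv_left hlz).eq hvz
  · rw [show (n * l)⁻¹ * z * (n * l) = l⁻¹ * v * l⁻¹⁻¹ by rw [hv]; group,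
      S.act_spec _ (Commute.inv_left hlz).eq v hvz, S.act_inv hlz, hle, hie, ← hk,
      ← ((Wel_code false k) 1 (by norm_num)).2, oG_inv_apply]

/-- An involution in the centraliser which is not conjugate to `z`. -/
theorem exists_outer {w : G} (F : S.Fr w) : ∃ t ∈ Lz h, t * t = 1 ∧ t ≠ 1 ∧ ¬ IsConj z t := by
  have e34 : Bp (dc 34) (dc 1) = 0 := by rw [Bp_dc (by norm_num) (by norm_num)]; rfl
  obtain ⟨x, hx, hxz, hxa⟩ := CoOne.exists_sg F e34
  obtain ⟨k₀, -, hk₀⟩ := List.any_eq_true.1 invol_word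
  have hxA : S.act x = Wel false k₀ := by
    refine ext_oG fun y => ext_basis (f := ((S.act x).1 : V →ₗ[ZMod 2] V)) (g := ((Wel false k₀).1 : V →ₗ[ZMod 2] V)) ?_ y
    intro v hv
    have hv' : v < 256 := (by decide : ∀ v ∈ [1, 2, 4, 8, 16, 32, 64, 128], v < 256) v hv
    show (S.act x).1 (dc v) = (Wel false k₀).1 (dc v)
    rw [hxa, sg_dc (by norm_num) hv', ((Wel_code false k₀) v hv').2,
      beq_iff_eq.1 (List.all_eq_true.1 hk₀ v hv)]
  have hA : S.act x ∈ AG false := hxA ▸ Wel_mem false k₀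
  have bw := w_comm h F
  have hbx : b * x = x * b := by
    have hconj : ∀ u, (S.act x).1 u = (S.act (b * x * b⁻¹)).1 u := fun u => by
      rw [act_conj S h.bz hxz, h.act, ← AG_comm hA, mul_inv_cancel_right]
    obtain ⟨k, hk, hk', e⟩ := CoOne.same_act F hx hxz (CoOne.nrm_w F bw hx) (conj_cent S h.bz hxz) hconj
    have hkb : b * k = k * b := CoOne.inter_comm F hk hk' h.bz bw
    have h2 : b * (x * k) * b⁻¹ = x := by
      calc b * (x * k) * b⁻¹ = b * x * b⁻¹ * (b * k * b⁻¹) := by group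
        _ = x * k * k := by rw [e, hkb, mul_inv_cancel_right]
        _ = x := by rw [mul_assoc, CoOne.inter_sq F hk hk', mul_one]
    have h3 : x = x * k := by
      calc x = b ^ 5 * x * (b ^ 5)⁻¹ := by rw [h.b5]; group
        _ = b * (b * (b * (b * (b * x * b⁻¹) * b⁻¹) * b⁻¹) * b⁻¹) * b⁻¹ := by
          simp only [pow_succ, pow_zero, one_mul]; group
        _ = x * k := by rw [e, h2, e, h2, e]
    exact mul_inv_eq_iff_eq_mul.1 (e.trans h3.symm)
  obtain ⟨a, ha, hae⟩ := S.pr_surj (dc 70)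
  have haL : a ∈ Lz h := Q1_le h ((mem_Q1 h).2 ⟨ha, by rw [hae]; exact In_dc (by decide +kernel)⟩)
  have hT : CoOne.InT S w (a * x) (dc 70) (dc 34) := ⟨a, x, ha, Or.inl hae, hx, hxz, hxa, rfl⟩
  refine ⟨a * x, mul_mem haL ⟨hxz, hbx.symm, hA⟩, CoOne.invol_P F hT, fun e => ?_, CoOne.not_conj_z F true hT⟩
  obtain ⟨lv, lu, -, hv1, hu1, hu0, hue, -⟩ := CoOneType.rep_facts true
  exact CoOne.T_notMem F (CoOneType.dc_perp _ lv hv1) (CoOneType.dc_perp _ lu hu1)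
    (fun e' => hu0 (dc_inj lu (by norm_num) (e'.trans dc_zero.symm)))
    (fun e' => hue (dc_inj lu (by norm_num) e')) hT (e ▸ one_mem _)

omit h

instance (y : G) : ((Subgroup.zpowers y).subgroupOf (Cy y)).Normal := ⟨fun a ha g => by
  obtain ⟨k, hk⟩ := Subgroup.mem_zpowers_iff.1 (Subgroup.mem_subgroupOf.1 ha)
  have hg : Commute (g : G) y := mem_Cy.1 g.2
  have : g * a * g⁻¹ = a := by
    refine mul_inv_eq_iff_eq_mul.2 (Subtype.ext ?_)
    show (g : G) * (a : G) = (a : G) * (g : G)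
    rw [← hk]
    exact (hg.zpow_right k).eq
  rw [this]
  exact ha⟩

/-- The quotient of the centraliser. -/
abbrev My (y : G) : Type _ := ↥(Cy y) ⧸ (Subgroup.zpowers y).subgroupOf (Cy y)

/-- The image of an element. -/
noncomputable def pm (y a : G) : My y :=
  haveI := Classical.dec (a ∈ Cy y)
  if ha : a ∈ Cy y then QuotientGroup.mk' _ ⟨a, ha⟩ else 1

theorem pm_def {y a : G} (ha : a ∈ Cy y) : pm y a = QuotientGroup.mk' _ ⟨a, ha⟩ := dif_pos ha

theorem pm_mul {y a c : G} (ha : a ∈ Cy y) (hc : c ∈ Cy y) : pm y (a * c) = pm y a * pm y c := by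
  rw [pm_def (mul_mem ha hc), pm_def ha, pm_def hc, ← map_mul]
  rfl

theorem pm_inv {y a : G} (ha : a ∈ Cy y) : pm y a⁻¹ = (pm y a)⁻¹ := by
  rw [pm_def (inv_mem ha), pm_def ha, ← map_inv]
  rfl

theorem pm_one (y : G) : pm y 1 = 1 := by rw [pm_def (one_mem _)]; exact map_one _

theorem pm_surj {y : G} (m : My y) : ∃ a ∈ Cy y, pm y a = m := by
  obtain ⟨⟨a, ha⟩, rfl⟩ := QuotientGroup.mk'_surjective _ m
  exact ⟨a, ha, pm_def ha⟩

theorem pm_eq {y a c : G} (ha : a ∈ Cy y) (hc : c ∈ Cy y) (e : pm y a = pm y c) : a⁻¹ * c ∈ Subgroup.zpowers y := by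
  rw [pm_def ha, pm_def hc] at e
  exact Subgroup.mem_subgroupOf.1 (QuotientGroup.eq.1 e)

include h

theorem two_part_eq {a c : G} (ha : a ∈ Cy b) (hc : c ∈ Cy b) (a4 : a ^ 4 = 1) (c4 : c ^ 4 = 1)
    (e : pm b a = pm b c) : a = c := by
  obtain ⟨k, hk⟩ := Subgroup.mem_zpowers_iff.1 (pm_eq ha hc e)
  have hac : Commute a (b ^ k) := (show Commute a b from mem_Cy.1 ha).zpow_right k
  have e' : c = a * b ^ k := by rw [hk, mul_inv_cancel_left]
  rw [e', hac.mul_pow, a4, one_mul] at c4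
  have h5 : (b ^ k) ^ 5 = 1 := by rw [← zpow_natCast, ← zpow_mul, mul_comm, zpow_mul, zpow_natCast, h.b5, one_zpow]
  rw [pow_succ, c4, one_mul] at h5
  rw [e', h5, mul_one]

theorem z_Cy : z ∈ Cy b := (z_mem_Q1 h).2

theorem Lz_le : Lz h ≤ Cy b := fun c hc => mem_Cy.2 hc.2.1

theorem pm_inj_Lz {a c : G} (ha : a ∈ Lz h) (hc : c ∈ Lz h) (e : pm b a = pm b c) : a = c :=
  inv_mul_eq_one.1 (zpowers_inter h (pm_eq (Lz_le h ha) (Lz_le h hc) e) (mul_mem (inv_mem ha) hc))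

theorem z_four : z ^ 4 = 1 := pow_four S S.zmem

theorem conj_four {c : G} (x : G) (hx : x ^ 4 = 1) : (c * x * c⁻¹) ^ 4 = 1 := by rw [conj_pow, hx]; group

/-- A lift of an element commuting with the image of `z`. -/
theorem lift_cent {m : My b} (hm : m * pm b z = pm b z * m) : ∃ l ∈ Lz h, pm b l = m := by
  obtain ⟨c, hc, rfl⟩ := pm_surj m
  have hz := z_Cy h
  have e : c * z * c⁻¹ = z := by
    refine two_part_eq h (mul_mem (mul_mem hc hz) (inv_mem hc)) hz (conj_four h z (z_four h)) (z_four h) ?_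
    rw [pm_mul (mul_mem hc hz) (inv_mem hc), pm_mul hc hz, pm_inv hc, hm, mul_inv_cancel_right]
  obtain ⟨i, l, hl, rfl⟩ := cent_decomp h (mul_inv_eq_iff_eq_mul.1 e) (mem_Cy.1 hc)
  refine ⟨l, hl, ?_⟩
  have hbi : b ^ i ∈ Cy b := pow_mem (mem_Cy.2 rfl) i
  rw [pm_mul hbi (Lz_le h hl)]
  have : pm b (b ^ i) = 1 := by
    rw [pm_def hbi]
    exact (QuotientGroup.eq_one_iff _).2 (Subgroup.mem_subgroupOf.2 (Subgroup.npow_mem_zpowers b i))
  rw [this, one_mul]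

/-- The homomorphism to the quotient. -/
theorem exists_psi : ∃ ψ : ↥(Lz h) →* My b, Function.Injective ψ ∧ ∀ c : ↥(Lz h), ψ c = pm b (c : G) := by
  refine ⟨MonoidHom.mk' (fun c => pm b (c : G)) fun x y => pm_mul (Lz_le h x.2) (Lz_le h y.2), ?_, fun c => rfl⟩
  exact fun x y e => Subtype.ext (pm_inj_Lz h x.2 y.2 e)

theorem zbar_ne : pm b z ≠ 1 := fun e =>
  S.zne (pm_inj_Lz h (z_mem_Lz h) (one_mem _) (e.trans (pm_one b).symm))

open scoped commutatorElement in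
/-- The hypothesis of Hall–Janko type in every subgroup that is large enough. -/
theorem exists_hj {w n : G} (M : Move h w n) (H : Subgroup (My b)) (hL : ∀ c ∈ Lz h, pm b c ∈ H)
    (hk : ∀ q, q ∈ oc z ⊓ Cy b → pm b (n * q * n⁻¹) ∈ H) :
    ∃ Q : Subgroup ↥H, HallJanko.HJ (⟨pm b z, hL z (z_mem_Lz h)⟩ : ↥H) Q ∧
      ∀ t ∈ Lz h, ∀ ht : pm b t ∈ H, t * t = 1 → ¬ IsConj z t → ¬ IsConj (⟨pm b z, hL z (z_mem_Lz h)⟩ : ↥H) ⟨pm b t, ht⟩ := by
  classical
  obtain ⟨ψ, ψi, ψe⟩ := exists_psi h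
  let ψH : ↥(Lz h) →* ↥H := ψ.codRestrict H fun c => by rw [ψe]; exact hL _ c.2
  have ψHi : Function.Injective ψH := fun x y e => ψi (congrArg Subtype.val e)
  have ψHe : ∀ c : ↥(Lz h), (ψH c : My b) = pm b (c : G) := ψe
  let Q : Subgroup ↥H := ((oc z ⊓ Cy b).subgroupOf (Lz h)).map ψH
  let eQ : ↥(oc z ⊓ Cy b) ≃* ↥Q :=
    (Subgroup.subgroupOfEquivOfLe (Q1_le h)).symm.trans (Subgroup.equivMapOfInjective _ ψH ψHi)
  have memQ : ∀ {m : ↥H}, m ∈ Q ↔ ∃ q ∈ oc z ⊓ Cy b, pm b q = (m : My b) := by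
    intro m
    constructor
    · rintro ⟨c, hc, rfl⟩; exact ⟨c, hc, (ψHe c).symm⟩
    · rintro ⟨q, hq, e⟩; exact ⟨⟨q, Q1_le h hq⟩, hq, Subtype.ext ((ψHe _).trans e)⟩
  set zH : ↥H := ⟨pm b z, hL z (z_mem_Lz h)⟩ with hzH
  have hzz : zH * zH = 1 := Subtype.ext (by
    show pm b z * pm b z = 1
    rw [← pm_mul (z_Cy h) (z_Cy h), S.zz, pm_one])
  have hnc : ∀ t ∈ Lz h, ∀ ht : pm b t ∈ H, t * t = 1 → ¬ IsConj z t → ¬ IsConj zH ⟨pm b t, ht⟩ := by
    intro t htL ht t2 hcon hc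
    obtain ⟨⟨m, hm⟩, e⟩ := isConj_iff.1 hc
    obtain ⟨c, hcC, rfl⟩ := pm_surj m
    have e' : pm b c * pm b z * (pm b c)⁻¹ = pm b t := congrArg Subtype.val e
    refine hcon (isConj_iff.2 ⟨c, two_part_eq h (mul_mem (mul_mem hcC (z_Cy h)) (inv_mem hcC)) (Lz_le h htL)
      (conj_four h z (z_four h)) (by rw [show (4 : ℕ) = 2 * 2 from rfl, pow_mul, pow_two, pow_two, t2, one_mul]) ?_⟩)
    rw [pm_mul (mul_mem hcC (z_Cy h)) (inv_mem hcC), pm_mul hcC (z_Cy h), pm_inv hcC, e']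
  refine ⟨Q, ⟨⟨orderOf_eq_prime (by rw [pow_two]; exact hzz) (fun e => zbar_ne h (congrArg Subtype.val e)),
    ?_, ?_, LargeExtra.extraspecial_congr eQ h.es, ?_, memQ.2 ⟨z, z_mem_Q1 h, rfl⟩, ?_, ?_⟩, ?_, ?_⟩, hnc⟩
  · intro m hm
    obtain ⟨q, hq, e⟩ := memQ.1 hm
    refine Subtype.ext ?_
    show (m : My b) * pm b z = pm b z * (m : My b)
    rw [← e, ← pm_mul hq.2 (z_Cy h), ← pm_mul (z_Cy h) hq.2, S.comm hq.1]
  · intro c hc m hm
    obtain ⟨q, hq, e⟩ := memQ.1 hm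
    obtain ⟨l, hl, el⟩ := lift_cent h (m := (c : My b)) (congrArg Subtype.val hc)
    have hq2 : q ∈ Cy b := hq.2
    refine memQ.2 ⟨l * q * l⁻¹, Subgroup.mem_inf.2 ⟨S.nrm hl.1 hq.1, mul_mem (mul_mem (Lz_le h hl) hq2) (inv_mem (Lz_le h hl))⟩, ?_⟩
    rw [pm_mul (mul_mem (Lz_le h hl) hq2) (inv_mem (Lz_le h hl)), pm_mul (Lz_le h hl) hq2, pm_inv (Lz_le h hl),
      e, el]
    rfl
  · rw [← Nat.card_congr eQ.toEquiv, h.card_Q1]
  · intro c hc
    obtain ⟨l, hl, el⟩ := lift_cent h (m := (c : My b)) (congrArg Subtype.val (hc zH (memQ.2 ⟨z, z_mem_Q1 h, rfl⟩)).symm)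
    have hlq : ∀ q ∈ oc z ⊓ Cy b, q * l = l * q := fun q hq => pm_inj_Lz h (mul_mem (Q1_le h hq) hl)
      (mul_mem hl (Q1_le h hq)) (by
      have e1 : (ψH ⟨q, Q1_le h hq⟩ : My b) * (c : My b) = (c : My b) * (ψH ⟨q, Q1_le h hq⟩ : My b) :=
        congrArg Subtype.val (hc (ψH ⟨q, Q1_le h hq⟩) ⟨⟨q, Q1_le h hq⟩, hq, rfl⟩)
      rw [ψHe] at e1
      rw [pm_mul hq.2 (Lz_le h hl), pm_mul (Lz_le h hl) hq.2, el]
      exact e1)
    have hact : S.act l = 1 := by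
      have hA2 : S.act l ∈ AG true := mem_AG_of_fix hl.2.2.1 fun x hx => by
        obtain ⟨a, ha, rfl⟩ := S.pr_surj x
        rw [← S.act_spec l hl.1 a ha, ← hlq a ((mem_Q1 h).2 ⟨ha, hx⟩), mul_inv_cancel_right]
      refine ext_movL fun k v hv => ?_
      rw [oG_one_apply]
      cases k
      · exact hA2.2 v hv
      · exact hl.2.2.2 v hv
    have hlo : l ∈ oc z := S.act_ker l hl.1 hact
    have hp : S.pr l = 0 := by
      refine In_inter ?_ ((mem_Q1 h).1 ⟨hlo, Lz_le h hl⟩).2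
      intro i hi
      obtain ⟨a, ha, hae⟩ := S.pr_surj (dc i)
      rw [← hae]
      exact (S.commute_iff hlo ha).1 (hlq a ((mem_Q1 h).2 ⟨ha, by
        rw [hae]; exact In_dc ((by decide +kernel : ∀ i ∈ fixL true, i ∈ spanL false) i hi)⟩)).symm
    rcases S.pr_ker l hlo hp with e | e
    · exact Or.inl (Subtype.ext (by rw [← el, e, pm_one]; rfl))
    · exact Or.inr (Subtype.ext (by rw [← el, e]))
  · rw [← card_Lz h, Nat.card_congr (MonoidHom.ofInjective ψHi).toEquiv]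
    refine Nat.card_congr (Equiv.subtypeEquivRight fun m => ?_)
    rw [Subgroup.mem_centralizer_singleton_iff]
    constructor
    · intro hm
      obtain ⟨l, hl, el⟩ := lift_cent h (m := (m : My b)) (congrArg Subtype.val hm)
      exact ⟨⟨l, hl⟩, Subtype.ext ((ψHe _).trans el)⟩
    · rintro ⟨l, rfl⟩
      refine Subtype.ext ?_
      show (ψH l : My b) * pm b z = pm b z * (ψH l : My b)
      rw [ψHe, ← pm_mul (Lz_le h l.2) (z_Cy h), ← pm_mul (z_Cy h) (Lz_le h l.2), l.2.1]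
  · obtain ⟨q, hq, hqe⟩ := S.pr_surj (dc 16)
    have hqQ : q ∈ oc z ⊓ Cy b := (mem_Q1 h).2 ⟨hq, by rw [hqe]; exact In_dc (by decide +kernel)⟩
    have hcom : q * (n⁻¹ * z * n) * q⁻¹ = z * (n⁻¹ * z * n) := by
      have e := S.commutator_eq hq M.F'.mem
      rw [hqe, M.F'.pr_eq, show Bp (dc 16) (dc 1) = 1 from by rw [Bp_dc (by norm_num) (by norm_num)]; rfl, zp_one] at e
      exact mul_inv_eq_iff_eq_mul.1 e
    have hnC : n ∈ Cy b := mem_Cy.2 M.nb
    have hkC : n * q * n⁻¹ ∈ Cy b := mul_mem (mul_mem hnC hqQ.2) (inv_mem hnC)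
    have e : n * q * n⁻¹ * z * (n * q * n⁻¹)⁻¹ = w * z := by
      calc n * q * n⁻¹ * z * (n * q * n⁻¹)⁻¹ = n * (q * (n⁻¹ * z * n) * q⁻¹) * n⁻¹ := by group
        _ = n * z * n⁻¹ * z := by rw [hcom]; group
        _ = w * z := by rw [M.nz]
    have hwQ : w * z ∈ oc z ⊓ Cy b := mul_mem ⟨M.F.mem, mem_Cy.2 (w_comm h M.F).symm⟩ (z_mem_Q1 h)
    have epm : pm b (n * q * n⁻¹) * pm b z * (pm b (n * q * n⁻¹))⁻¹ = pm b (w * z) := by
      rw [← pm_inv hkC, ← pm_mul hkC (z_Cy h), ← pm_mul (mul_mem hkC (z_Cy h)) (inv_mem hkC), e]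
    refine ⟨⟨_, hk q hqQ⟩, memQ.2 ⟨w * z, hwQ, epm.symm⟩, fun e' => CoOne.wne M.F ?_⟩
    have e2 : pm b (w * z) = pm b z := epm.symm.trans (congrArg Subtype.val e')
    exact mul_eq_right.1 (pm_inj_Lz h (Q1_le h hwQ) (z_mem_Lz h) e2)
  · obtain ⟨t, htL, t2, t1, htn⟩ := exists_outer h M.F
    refine ⟨zH, ⟨pm b t, hL t htL⟩, orderOf_eq_prime (by rw [pow_two]; exact hzz) (fun e => zbar_ne h (congrArg Subtype.val e)),
      orderOf_eq_prime (Subtype.ext ?_) (fun e => t1 (pm_inj_Lz h htL (one_mem _) ((congrArg Subtype.val e).trans (pm_one b).symm))),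
      hnc t htL _ t2 htn⟩
    show pm b t ^ 2 = 1
    rw [pow_two, ← pm_mul (Lz_le h htL) (Lz_le h htL), t2, pm_one]

/-- The subgroup generated by the two involution centralisers. -/
abbrev HG {S : CoOne z} {b : G} (h : Std5 S b) (n : G) : Subgroup G :=
  Lz h ⊔ (Lz h).map (MulAut.conj n).toMonoidHom

theorem HG_le {w n : G} (M : Move h w n) : HG h n ≤ Cy b := by
  refine sup_le (Lz_le h) ?_
  rintro _ ⟨l, hl, rfl⟩
  exact mul_mem (mul_mem (mem_Cy.2 M.nb) (Lz_le h hl)) (inv_mem (mem_Cy.2 M.nb))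

/-- The centraliser is generated by `b` and the two involution centralisers. -/
theorem decomp {w n : G} (M : Move h w n) {c : G} (hc : c ∈ Cy b) :
    ∃ i : ℤ, ∃ l ∈ HG h n, c = b ^ i * l := by
  classical
  let H : Subgroup (My b) := ((HG h n).subgroupOf (Cy b)).map (QuotientGroup.mk' _)
  have hH : ∀ l ∈ HG h n, pm b l ∈ H := fun l hl =>
    ⟨⟨l, HG_le h M hl⟩, hl, (pm_def (HG_le h M hl)).symm⟩
  obtain ⟨Q, hQ, -⟩ := exists_hj h M H (fun l hl => hH l (Subgroup.mem_sup_left hl))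
    (fun q hq => hH _ (Subgroup.mem_sup_right ⟨q, Q1_le h hq, rfl⟩))
  obtain ⟨Q', hQ', -⟩ := exists_hj h M ⊤ (fun _ _ => trivial) (fun _ _ => trivial)
  have e : H = ⊤ := Subgroup.eq_of_le_of_card_ge le_top
    (le_of_eq (hQ'.card_G.trans hQ.card_G.symm))
  obtain ⟨⟨l, hlC⟩, hl, hle⟩ : pm b c ∈ H := e ▸ Subgroup.mem_top _
  rw [← pm_def hlC] at hle
  obtain ⟨i, hi⟩ := Subgroup.mem_zpowers_iff.1 (pm_eq hlC hc hle)
  refine ⟨i, l, hl, ?_⟩
  have hcomm : Commute l (b ^ i) := (show Commute l b from mem_Cy.1 hlC).zpow_right i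
  rw [← hcomm.eq, hi, mul_inv_cancel_left]

theorem iso_J2 : Cfsg.Spor.IsoJ2 (My b) := by
  obtain ⟨w, n, M⟩ := exists_move h
  obtain ⟨Q, hQ, -⟩ := exists_hj h M ⊤ (fun _ _ => trivial) (fun _ _ => trivial)
  obtain ⟨e⟩ := hQ.isoJ2
  exact ⟨Subgroup.topEquiv.symm.trans e⟩

theorem simple_M : IsSimpleGroup (My b) := by
  obtain ⟨e⟩ := iso_J2 h
  haveI := JankoTwo.isSimpleGroup_J2
  exact e.isSimpleGroup

theorem card_M : Nat.card (My b) = 604800 := by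
  obtain ⟨w, n, M⟩ := exists_move h
  obtain ⟨Q, hQ, -⟩ := exists_hj h M ⊤ (fun _ _ => trivial) (fun _ _ => trivial)
  have := hQ.card_G
  rwa [Subgroup.card_top] at this

/-- Conjugates of `z` in the centraliser are conjugate there. -/
theorem conj_in_Cy {x : G} (hx : x ∈ Cy b) (hzx : IsConj z x) : ∃ k ∈ Cy b, k * x * k⁻¹ = z := by
  obtain ⟨w, n, M⟩ := exists_move h
  obtain ⟨Q, hQ, hnc⟩ := exists_hj h M ⊤ (fun _ _ => trivial) (fun _ _ => trivial)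
  obtain ⟨g, hg⟩ := isConj_iff.1 hzx
  have x2 : x * x = 1 := by
    rw [← hg]
    calc g * z * g⁻¹ * (g * z * g⁻¹) = g * (z * z) * g⁻¹ := by group
      _ = 1 := by rw [S.zz]; group
  have x4 : x ^ 4 = 1 := by rw [show (4 : ℕ) = 2 * 2 from rfl, pow_mul, pow_two, pow_two, x2, one_mul]
  have x1 : x ≠ 1 := fun e => S.zne (conj_eq_one_iff.1 (hg.trans e))
  have hxo : orderOf (⟨pm b x, trivial⟩ : ↥(⊤ : Subgroup (My b))) = 2 := orderOf_eq_prime
    (Subtype.ext (by show pm b x ^ 2 = 1; rw [pow_two, ← pm_mul hx hx, x2, pm_one]))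
    (fun e => x1 (two_part_eq h hx (one_mem _) x4 (one_pow 4) ((congrArg Subtype.val e).trans (pm_one b).symm)))
  have hlift : ∀ y ∈ Cy b, y ^ 4 = 1 → IsConj (⟨pm b x, trivial⟩ : ↥(⊤ : Subgroup (My b))) ⟨pm b y, trivial⟩ →
      ∃ k ∈ Cy b, k * x * k⁻¹ = y := by
    intro y hy y4 hc
    obtain ⟨⟨m, hm⟩, e⟩ := isConj_iff.1 hc
    obtain ⟨k, hk, rfl⟩ := pm_surj m
    refine ⟨k, hk, two_part_eq h (mul_mem (mul_mem hk hx) (inv_mem hk)) hy (conj_four h x x4) y4 ?_⟩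
    rw [pm_mul (mul_mem hk hx) (inv_mem hk), pm_mul hk hx, pm_inv hk]
    exact congrArg Subtype.val e
  by_cases hzc : IsConj (⟨pm b z, trivial⟩ : ↥(⊤ : Subgroup (My b))) ⟨pm b x, trivial⟩
  · exact hlift z (z_Cy h) (z_four h) hzc.symm
  · exfalso
    obtain ⟨t, htL, t2, t1, htn⟩ := exists_outer h M.F
    have hto : orderOf (⟨pm b t, trivial⟩ : ↥(⊤ : Subgroup (My b))) = 2 := orderOf_eq_prime
      (Subtype.ext (by show pm b t ^ 2 = 1; rw [pow_two, ← pm_mul (Lz_le h htL) (Lz_le h htL), t2, pm_one]))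
      (fun e => t1 (pm_inj_Lz h htL (one_mem _) ((congrArg Subtype.val e).trans (pm_one b).symm)))
    have t4 : t ^ 4 = 1 := by rw [show (4 : ℕ) = 2 * 2 from rfl, pow_mul, pow_two, pow_two, t2, one_mul]
    obtain ⟨k, -, hk⟩ := hlift t (Lz_le h htL) t4 (hQ.isConj_of_not hxo hto hzc (hnc t htL _ t2 htn))
    exact htn (hzx.trans (isConj_iff.2 ⟨k, hk⟩))

end Cfsg.Agent.CoOneFive
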