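import Cfsg.Agent.CoOneFive.Quot
import Cfsg.Agent.Layer.Components

/-!
The centraliser of the element of order five is a direct product.
-/

set_option autoImplicit false
set_option linter.all false
set_option maxRecDepth 100000
set_option maxHeartbeats 1000000

open Cfsg Cfsg.Agent.ThreeTrans.OrthCohom Cfsg.Agent.Classical.Quad QuadraticMap Cfsg.Agent.LargeExtra

namespace Cfsg.Agent.CoOneFive

open Cfsg.Agent.CoOneType
open scoped commutatorElement

variable {G : Type*} [Group G] [Finite G] {z : G} {S : CoOne z} {b : G} (h : Std5 S b)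
include h

/-- An element conjugate to `b` in the group has a fixed vector. -/
theorem fixed_of_conj {x : G} (xz : x * z = z * x) {g : G} (hg : g * x * g⁻¹ = b) :
    ∃ v ≠ 0, (S.act x).1 v = v := by
  have hzc : g * z * g⁻¹ ∈ Cy b := mem_Cy.2 (by
    rw [← hg]
    calc g * z * g⁻¹ * (g * x * g⁻¹) = g * (z * x) * g⁻¹ := by group
      _ = g * x * g⁻¹ * (g * z * g⁻¹) := by rw [← xz]; group)
  obtain ⟨k, hk, hke⟩ := conj_in_Cy h hzc (isConj_iff.2 ⟨g, rfl⟩)
  obtain ⟨c, hc⟩ : ∃ c, c = k * g := ⟨_, rfl⟩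
  have cz : c * z = z * c := mul_inv_eq_iff_eq_mul.1 (by
    rw [hc]
    calc k * g * z * (k * g)⁻¹ = k * (g * z * g⁻¹) * k⁻¹ := by group
      _ = z := hke)
  have cx : c * x * c⁻¹ = b := by
    rw [hc]
    calc k * g * x * (k * g)⁻¹ = k * (g * x * g⁻¹) * k⁻¹ := by group
      _ = k * b * k⁻¹ := by rw [hg]
      _ = b := by rw [mem_Cy.1 hk, mul_inv_cancel_right]
  have ha := act_conj S cz xz
  rw [cx, h.act] at ha
  refine ⟨((S.act c)⁻¹).1 (dc 1), fun e => ?_, ?_⟩
  · have := congrArg (S.act c).1 e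
    rw [oG_apply_inv, map_zero] at this
    exact absurd (dc_inj (by norm_num) (by norm_num) (this.trans dc_zero.symm)) (by norm_num)
  · have e2 : S.act x = (S.act c)⁻¹ * B0 * S.act c := by rw [ha]; group
    rw [e2, oG_mul_apply, oG_apply_inv, oG_mul_apply, B0_fix_In.2 (In_dc (by decide +kernel))]

theorem exists_second : ∃ b₁ ∈ Lz h, b₁ ^ 5 = 1 ∧ S.act b₁ = Gen false 0 := by
  obtain ⟨c, hc, hce⟩ := lift_Lz h (g := Gen false 0) (by
    have := Wel_mem false (1, 0, 0, 0)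
    simpa [Wel] using this)
  have g5 : Gen false 0 ^ 5 = 1 :=
    IsCode.eq ((Gen_spec false 0).2.pow 5) IsCode.one fun k v hv => (B0_row (movL_lt k hv)).2.2
  have h5 : c ^ 5 ∈ oc z := S.act_ker _ (Commute.pow_left hc.1 5).eq (by rw [act_pow S hc.1, hce, g5])
  refine ⟨c ^ 16, pow_mem hc 16, ?_, ?_⟩
  · rw [← pow_mul, show 16 * 5 = 5 * (4 * 4) by norm_num, pow_mul, pow_mul, pow_four S h5, one_pow]
  · rw [act_pow S hc.1, hce, show (16 : ℕ) = 5 * 3 + 1 from rfl, pow_succ, pow_mul, g5, one_pow, one_mul]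

theorem card_Cy : Nat.card ↥(Cy b) = 3024000 := by
  have hc := ((Subgroup.zpowers b).subgroupOf (Cy b)).card_mul_index
  rw [Subgroup.index_eq_card, show Nat.card (↥(Cy b) ⧸ (Subgroup.zpowers b).subgroupOf (Cy b)) = 604800 from card_M h,
    Nat.card_congr (Subgroup.subgroupOfEquivOfLe (Subgroup.zpowers_le.2 (mem_Cy.2 rfl : b ∈ Cy b))).toEquiv,
    Nat.card_zpowers, orderOf_b h] at hc
  exact hc.symm

/-- A Sylow subgroup for five of the centraliser is abelian, so the centre splits off. -/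
theorem b_not_derived : (⟨b, mem_Cy.2 rfl⟩ : ↥(Cy b)) ∉ commutator ↥(Cy b) := by
  classical
  haveI : Fact (Nat.Prime 5) := ⟨by norm_num⟩
  obtain ⟨b₁, hb₁L, b15, hb1a⟩ := exists_second h
  set β : ↥(Cy b) := ⟨b, mem_Cy.2 rfl⟩ with hβ
  set β₁ : ↥(Cy b) := ⟨b₁, Lz_le h hb₁L⟩ with hβ₁
  set N := (Subgroup.zpowers b).subgroupOf (Cy b) with hN
  have hN5 : Nat.card N = 5 := by
    rw [hN, Nat.card_congr (Subgroup.subgroupOfEquivOfLe (Subgroup.zpowers_le.2 (mem_Cy.2 rfl : b ∈ Cy b))).toEquiv,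
      Nat.card_zpowers, orderOf_b h]
  have hb₁1 : β₁ ≠ 1 := fun e => by
    have e' : Gen false 0 = 1 := by rw [← hb1a, show b₁ = 1 from congrArg Subtype.val e, S.act_one]
    have e'' : (Gen false 0).1 (dc 1) = dc 1 := by rw [e', oG_one_apply]
    rw [((Gen_spec false 0).2 1 (by norm_num)).2] at e''
    exact absurd (dc_inj ((Gen_spec false 0).2 1 (by norm_num)).1 (by norm_num) e'') (by decide +kernel)
  have h1 : IsPGroup 5 ↥(Subgroup.zpowers β₁) := IsPGroup.of_card (n := 1) (by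
    rw [Nat.card_zpowers, pow_one]
    exact orderOf_eq_prime (Subtype.ext b15) hb₁1)
  obtain ⟨P, hP⟩ := (h1.to_sup_of_normal_right (K := N) (IsPGroup.of_card (n := 1) (by rw [hN5, pow_one]))).exists_le_sylow
  have hβP : β ∈ (P : Subgroup ↥(Cy b)) := hP (Subgroup.mem_sup_right (Subgroup.mem_subgroupOf.2 (Subgroup.mem_zpowers b)))
  have hβ₁P : β₁ ∈ (P : Subgroup ↥(Cy b)) := hP (Subgroup.mem_sup_left (Subgroup.mem_zpowers β₁))
  have hPc : Nat.card (P : Subgroup ↥(Cy b)) = 125 := by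
    have hC := card_Cy h
    have h125 : 125 ∣ Nat.card (P : Subgroup ↥(Cy b)) := by
      have := P.pow_dvd_card_of_pow_dvd_card (n := 3) (by rw [hC]; norm_num)
      simpa using this
    obtain ⟨k, hk⟩ := IsPGroup.iff_card.1 P.isPGroup'
    have hdvd : 5 ^ k ∣ 3024000 := hk ▸ hC ▸ Subgroup.card_subgroup_dvd_card _
    have hk3 : k ≤ 3 := by
      by_contra hc
      exact absurd ((pow_dvd_pow 5 (by omega : 4 ≤ k)).trans hdvd) (by norm_num)
    rw [hk] at h125 ⊢
    have : 3 ≤ k := (Nat.pow_dvd_pow_iff_le_right (by norm_num : 1 < 5)).1 (by simpa using h125)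
    rw [show k = 3 by omega]
    norm_num
  -- the image has order twenty-five
  set π := QuotientGroup.mk' N with hπ
  have hker : π.ker ≤ (P : Subgroup ↥(Cy b)) := by
    rw [hπ, QuotientGroup.ker_mk']
    exact le_sup_right.trans hP
  have himg : Nat.card ((P : Subgroup ↥(Cy b)).map π) = 5 ^ 2 := by
    have e1 := Subgroup.index_map_eq (P : Subgroup ↥(Cy b)) (QuotientGroup.mk'_surjective N) hker
    have e2 := ((P : Subgroup ↥(Cy b)).map π).card_mul_index
    have e3 := (P : Subgroup ↥(Cy b)).card_mul_index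
    rw [hPc, card_Cy h] at e3
    rw [e1, show Nat.card (↥(Cy b) ⧸ N) = 604800 from card_M h] at e2
    have : (P : Subgroup ↥(Cy b)).index = 24192 := by omega
    rw [this] at e2
    omega
  have hab := IsPGroup.commutative_of_card_eq_prime_sq himg
  -- `b₁` is central in the Sylow subgroup
  have hb₁c : ∀ y ∈ (P : Subgroup ↥(Cy b)), y * β₁ = β₁ * y := by
    intro y hy
    have e : π (β₁⁻¹ * (y * β₁ * y⁻¹)) = 1 := by
      have := congrArg Subtype.val (hab ⟨π y, y, hy, rfl⟩ ⟨π β₁, β₁, hβ₁P, rfl⟩)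
      simp only [map_mul, map_inv]
      rw [show π y * π β₁ = π β₁ * π y from this]
      group
    obtain ⟨i, hi⟩ : ∃ i : ℕ, b ^ i = ((β₁⁻¹ * (y * β₁ * y⁻¹) : ↥(Cy b)) : G) :=
      (isOfFinOrder_of_finite b).mem_powers_iff_mem_zpowers.2
        (Subgroup.mem_subgroupOf.1 ((QuotientGroup.eq_one_iff _).1 e))
    have hx : (y : G) * b₁ * (y : G)⁻¹ = b₁ * b ^ (i % 5) := by
      have e5 : b ^ (i % 5) = b ^ i := by
        conv_rhs => rw [← Nat.mod_add_div i 5, pow_add, pow_mul, h.b5, one_pow, mul_one]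
      rw [e5, hi]
      show _ = b₁ * (b₁⁻¹ * ((y : G) * b₁ * (y : G)⁻¹))
      group
    obtain ⟨c, cz, ce⟩ := conj_five S hb₁L.1 h.bz b15 h.b5 (fun e => hb₁1 (Subtype.ext e)) (b_ne h)
      ⟨dc 8, fun e => absurd (dc_inj (by norm_num) (by norm_num) (e.trans dc_zero.symm)) (by norm_num),
        hb₁L.2.2.2 8 (by decide)⟩
      ⟨dc 1, fun e => absurd (dc_inj (by norm_num) (by norm_num) (e.trans dc_zero.symm)) (by norm_num),
        by rw [h.act]; exact B0_fix_In.2 (In_dc (by decide +kernel))⟩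
    have hxz : b₁ * b ^ (i % 5) * z = z * (b₁ * b ^ (i % 5)) :=
      (Commute.mul_left hb₁L.1 (Commute.pow_left h.bz _)).eq
    obtain ⟨v, v0, hv⟩ := fixed_of_conj h hxz (g := c * (y : G)⁻¹) (by
      rw [← hx]
      calc c * (y : G)⁻¹ * ((y : G) * b₁ * (y : G)⁻¹) * (c * (y : G)⁻¹)⁻¹ = c * b₁ * c⁻¹ := by group
        _ = b := ce)
    have hi0 : i % 5 = 0 := by
      by_contra hne
      rw [S.act_mul hb₁L.1 (Commute.pow_left h.bz _).eq, act_pow S h.bz, h.act, hb1a, oG_mul_apply, ← dc_cd v,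
        ((B0_code.pow _) _ (cd v).isLt).2,
        ((Gen_spec false 0).2 _ ((B0_code.pow _) _ (cd v).isLt).1).2] at hv
      have hv' := dc_inj ((Gen_spec false 0).2 _ ((B0_code.pow _) _ (cd v).isLt).1).1 (cd v).isLt hv
      have t := List.all_eq_true.1 mixed_fpf (cd v).val (List.mem_range.2 (cd v).isLt)
      rcases Bool.or_eq_true_iff.1 t with t | t
      · exact v0 (by rw [← dc_cd v, beq_iff_eq.1 t, dc_zero])
      · have h4 : i % 5 ∈ [1, 2, 3, 4] := by
          have := Nat.mod_lt i (by norm_num : 5 > 0)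
          simp only [List.mem_cons, List.not_mem_nil, or_false]
          omega
        have t' := List.all_eq_true.1 t _ h4
        simp [b1, hv'] at t'
    rw [hi0, pow_zero, mul_one] at hx
    exact Subtype.ext (mul_inv_eq_iff_eq_mul.1 hx)
  have hβc : ∀ y : ↥(Cy b), y * β = β * y := fun y => Subtype.ext (mem_Cy.1 y.2)
  have hcomm : ∀ u v : (P : Subgroup ↥(Cy b)), u * v = v * u := by
    set ZP := Subgroup.center ↥(P : Subgroup ↥(Cy b)) with hZP
    have m0 : (⟨β, hβP⟩ : ↥(P : Subgroup ↥(Cy b))) ∈ ZP := Subgroup.mem_center_iff.2 fun g => Subtype.ext (hβc g)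
    have m1 : (⟨β₁, hβ₁P⟩ : ↥(P : Subgroup ↥(Cy b))) ∈ ZP :=
      Subgroup.mem_center_iff.2 fun g => Subtype.ext (hb₁c g g.2)
    have h25 : 25 ≤ Nat.card ZP := by
      have hinj : Function.Injective (fun p : Fin 5 × Fin 5 =>
          (⟨⟨β, hβP⟩ ^ p.1.val * ⟨β₁, hβ₁P⟩ ^ p.2.val, mul_mem (pow_mem m0 _) (pow_mem m1 _)⟩ : ZP)) := by
        rintro ⟨i, j⟩ ⟨i', j'⟩ e
        have e' : b ^ i.val * b₁ ^ j.val = b ^ i'.val * b₁ ^ j'.val :=
          congrArg (fun t : ZP => (((t : ↥(P : Subgroup ↥(Cy b))) : ↥(Cy b)) : G)) e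
        have e'' : (b ^ i'.val)⁻¹ * b ^ i.val = b₁ ^ j'.val * (b₁ ^ j.val)⁻¹ := by
          calc (b ^ i'.val)⁻¹ * b ^ i.val = (b ^ i'.val)⁻¹ * (b ^ i.val * b₁ ^ j.val) * (b₁ ^ j.val)⁻¹ := by group
            _ = _ := by rw [e']; group
        have hz := zpowers_inter h (mul_mem (inv_mem (Subgroup.npow_mem_zpowers b i'.val)) (Subgroup.npow_mem_zpowers b i.val))
          (e'' ▸ mul_mem (pow_mem hb₁L _) (inv_mem (pow_mem hb₁L _)))
        have hii : i.val = i'.val :=
          pow_injOn_Iio_orderOf (by rw [orderOf_b h]; exact i.isLt) (by rw [orderOf_b h]; exact i'.isLt)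
            (inv_mul_eq_one.1 hz).symm
        rw [hz, eq_comm, mul_inv_eq_one] at e''
        have o1 : orderOf b₁ = 5 := orderOf_eq_prime b15 fun e => hb₁1 (Subtype.ext e)
        have hjj : j'.val = j.val :=
          pow_injOn_Iio_orderOf (by rw [o1]; exact j'.isLt) (by rw [o1]; exact j.isLt) e''
        exact Prod.ext (Fin.ext hii) (Fin.ext hjj.symm)
      simpa using Nat.card_le_card_of_injective _ hinj
    have hdiv := ZP.card_mul_index
    rw [hPc] at hdiv
    have : IsCyclic (↥(P : Subgroup ↥(Cy b)) ⧸ ZP) := by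
      have hi : Nat.card (↥(P : Subgroup ↥(Cy b)) ⧸ ZP) = ZP.index := (Subgroup.index_eq_card _).symm
      have hdd : ZP.index ∣ 5 ^ 3 := ⟨Nat.card ZP, by rw [mul_comm, hdiv]; norm_num⟩
      obtain ⟨j, hj, ej⟩ := (Nat.dvd_prime_pow (by norm_num)).1 hdd
      have hle : ZP.index ≤ 5 := by nlinarith
      rw [ej] at hle hi
      have : j ≤ 1 := (Nat.pow_le_pow_iff_right (by norm_num : 1 < 5)).1 (hle.trans (by norm_num))
      interval_cases j
      · haveI : Subsingleton (↥(P : Subgroup ↥(Cy b)) ⧸ ZP) := (Nat.card_eq_one_iff_unique.1 (by rw [hi, pow_zero])).1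
        infer_instance
      · exact isCyclic_of_prime_card (p := 5) (by rw [hi, pow_one])
    exact commutative_of_cyclic_center_quotient (QuotientGroup.mk' ZP) (le_of_eq (QuotientGroup.ker_mk' _))
  -- the transfer
  letI : CommGroup ↥(P : Subgroup ↥(Cy b)) :=
    { (inferInstance : Group ↥(P : Subgroup ↥(Cy b))) with mul_comm := hcomm }
  intro hmem
  let τ : ↥(Cy b) →* ↥(P : Subgroup ↥(Cy b)) := MonoidHom.transfer (MonoidHom.id ↥(P : Subgroup ↥(Cy b)))
  have hτ : τ β = 1 := MonoidHom.mem_ker.1 (Abelianization.commutator_subset_ker τ hmem)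
  have key : ∀ (k : ℕ) (g₀ : ↥(Cy b)), g₀⁻¹ * β ^ k * g₀ ∈ (P : Subgroup ↥(Cy b)) →
      g₀⁻¹ * β ^ k * g₀ = β ^ k := fun k g₀ _ => by
    rw [mul_assoc, ← ((show Commute g₀ β from hβc g₀).pow_right k).eq, inv_mul_cancel_left]
  rw [show τ β = _ from MonoidHom.transfer_eq_pow (MonoidHom.id _) β key] at hτ
  have e : b ^ (P : Subgroup ↥(Cy b)).index = 1 :=
    congrArg (fun u : ↥(P : Subgroup ↥(Cy b)) => ((u : ↥(Cy b)) : G)) hτ
  rw [← orderOf_dvd_iff_pow_eq_one, orderOf_b h] at e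
  have e3 := (P : Subgroup ↥(Cy b)).card_mul_index
  rw [hPc, card_Cy h] at e3
  have : (P : Subgroup ↥(Cy b)).index = 24192 := by omega
  rw [this] at e
  norm_num at e

/-- The derived subgroup of the centraliser. -/
theorem derived_inf : commutator ↥(Cy b) ⊓ (Subgroup.zpowers b).subgroupOf (Cy b) = ⊥ := by
  rw [eq_bot_iff]
  rintro x ⟨hx, hxb⟩
  obtain ⟨k, hk⟩ := Subgroup.mem_zpowers_iff.1 (Subgroup.mem_subgroupOf.1 hxb)
  have hx' : x = (⟨b, mem_Cy.2 rfl⟩ : ↥(Cy b)) ^ k := Subtype.ext hk.symm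
  rw [Subgroup.mem_bot]
  by_contra hne
  refine b_not_derived h ?_
  set β : ↥(Cy b) := ⟨b, mem_Cy.2 rfl⟩
  haveI : Fact (Nat.Prime 5) := ⟨by norm_num⟩
  have ho : orderOf β = 5 := by rw [Subgroup.orderOf_mk, orderOf_b h]
  have hgen : Subgroup.zpowers x = Subgroup.zpowers β := by
    refine Subgroup.eq_of_le_of_card_ge (Subgroup.zpowers_le.2 (hx' ▸ Subgroup.zpow_mem_zpowers β k)) ?_
    rw [Nat.card_zpowers, Nat.card_zpowers, ho]
    have hd : orderOf x ∣ 5 := ho ▸ hx' ▸ orderOf_dvd_of_mem_zpowers (Subgroup.zpow_mem_zpowers β k)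
    rcases (Nat.dvd_prime (by norm_num)).1 hd with e | e
    · exact absurd (orderOf_eq_one_iff.1 e) hne
    · omega
  exact (Subgroup.zpowers_le.2 hx) (hgen.symm ▸ Subgroup.mem_zpowers β)

theorem not_comm_M : ¬ ∀ u v : My b, u * v = v * u := by
  intro hc
  obtain ⟨ψ, ψi, -⟩ := exists_psi h
  obtain ⟨q, hq, hqe⟩ := S.pr_surj (dc 16)
  obtain ⟨a, ha, hae⟩ := S.pr_surj (dc 1)
  have hqQ : q ∈ oc z ⊓ Cy b := (mem_Q1 h).2 ⟨hq, by rw [hqe]; exact In_dc (by decide +kernel)⟩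
  have haQ : a ∈ oc z ⊓ Cy b := (mem_Q1 h).2 ⟨ha, by rw [hae]; exact In_dc (by decide +kernel)⟩
  have e : (⟨q, Q1_le h hqQ⟩ : ↥(Lz h)) * ⟨a, Q1_le h haQ⟩ = ⟨a, Q1_le h haQ⟩ * ⟨q, Q1_le h hqQ⟩ :=
    ψi (by rw [map_mul, map_mul, hc])
  have := (S.commute_iff hq ha).1 (congrArg Subtype.val e)
  rw [hqe, hae, Bp_dc (by norm_num) (by norm_num)] at this
  exact absurd this (by decide)

theorem derived_map : (commutator ↥(Cy b)).map (QuotientGroup.mk' ((Subgroup.zpowers b).subgroupOf (Cy b))) = ⊤ := by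
  haveI := simple_M h
  rw [commutator_def, Subgroup.map_commutator, Subgroup.map_top_of_surjective _ (QuotientGroup.mk'_surjective _),
    ← commutator_def]
  refine (IsSimpleGroup.eq_bot_or_eq_top_of_normal (commutator (My b)) inferInstance).resolve_left fun e => ?_
  refine not_comm_M h fun u v => commutatorElement_eq_one_iff_mul_comm.1 ?_
  have hm : ⁅u, v⁆ ∈ commutator (My b) :=
    Subgroup.commutator_mem_commutator (Subgroup.mem_top _) (Subgroup.mem_top _)
  rwa [e, Subgroup.mem_bot] at hm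

theorem exists_derived_equiv : ∃ e : ↥(commutator ↥(Cy b)) ≃* My b, ∀ x, e x = QuotientGroup.mk' _ x.1 := by
  let f : ↥(commutator ↥(Cy b)) →* My b := (QuotientGroup.mk' _).comp (commutator ↥(Cy b)).subtype
  have hf : Function.Bijective f := by
    refine ⟨(injective_iff_map_eq_one f).2 fun x hx => Subtype.ext ?_, fun m => ?_⟩
    · have : (x : ↥(Cy b)) ∈ commutator ↥(Cy b) ⊓ (Subgroup.zpowers b).subgroupOf (Cy b) :=
        ⟨x.2, (QuotientGroup.eq_one_iff _).1 hx⟩
      rw [derived_inf h] at this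
      exact this
    · obtain ⟨x, hx, e⟩ : m ∈ (commutator ↥(Cy b)).map (QuotientGroup.mk' ((Subgroup.zpowers b).subgroupOf (Cy b))) :=
        derived_map h ▸ Subgroup.mem_top m
      exact ⟨⟨x, hx⟩, e⟩
  exact ⟨MulEquiv.ofBijective f hf, fun x => rfl⟩

theorem derived_index : (commutator ↥(Cy b)).index = 5 := by
  obtain ⟨e, -⟩ := exists_derived_equiv h
  have := (commutator ↥(Cy b)).card_mul_index
  rw [Nat.card_congr e.toEquiv, card_M h, card_Cy h] at this
  omega

theorem Lz_le_derived {c : G} (hc : c ∈ Lz h) : (⟨c, Lz_le h hc⟩ : ↥(Cy b)) ∈ commutator ↥(Cy b) := by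
  let χ : ↥(Lz h) →* ↥(Cy b) ⧸ commutator ↥(Cy b) :=
    (QuotientGroup.mk' _).comp (Subgroup.inclusion (Lz_le h))
  let f : ↥(Lz h) →* AG false := MonoidHom.mk' (fun c => ⟨S.act c.1, c.2.2.2⟩) fun x y =>
    Subtype.ext (S.act_mul x.2.1 y.2.1)
  have hs : Function.Surjective f := fun g => by
    obtain ⟨c, hc, e⟩ := lift_Lz h g.2
    exact ⟨⟨c, hc⟩, Subtype.ext e⟩
  have hA : Nat.card (↥(Cy b) ⧸ commutator ↥(Cy b)) = 5 := by rw [← Subgroup.index_eq_card, derived_index h]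
  have hQ : ∀ a : ↥(Lz h), (a : G) ∈ oc z → χ a = 1 := by
    intro a ha
    have h4 : χ a ^ 4 = 1 := by rw [← map_pow, show a ^ 4 = 1 from Subtype.ext (pow_four S ha), map_one]
    have h5 : χ a ^ 5 = 1 := by rw [← hA]; exact pow_card_eq_one'
    rwa [pow_succ, h4, one_mul] at h5
  haveI := isSimple_AG false
  haveI : (χ.ker.map f).Normal := Subgroup.Normal.map inferInstance f hs
  rcases IsSimpleGroup.eq_bot_or_eq_top_of_normal (χ.ker.map f) inferInstance with e | e
  · exfalso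
    have hle : χ.ker ≤ f.ker := (Subgroup.map_eq_bot_iff _).1 e
    have h1 := Subgroup.index_dvd_of_le hle
    rw [Subgroup.index_ker, MonoidHom.range_eq_top.2 hs, Subgroup.card_top, card_AG, Subgroup.index_ker] at h1
    have h2 := Subgroup.card_subgroup_dvd_card χ.range
    rw [hA] at h2
    have := Nat.le_of_dvd (by norm_num) (h1.trans h2)
    omega
  · obtain ⟨⟨a, ha⟩, hak, hae⟩ : f ⟨c, hc⟩ ∈ χ.ker.map f := e ▸ Subgroup.mem_top _
    have hac : S.act a = S.act c := congrArg Subtype.val hae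
    have hai := inv_mem ha
    have hq : a⁻¹ * c ∈ oc z := S.act_ker _ (Commute.mul_left hai.1 hc.1).eq
      (by rw [S.act_mul hai.1 hc.1, S.act_inv ha.1, hac, inv_mul_cancel])
    have h1 := hQ (⟨a, ha⟩⁻¹ * ⟨c, hc⟩) hq
    rw [map_mul, map_inv, MonoidHom.mem_ker.1 hak, inv_one, one_mul] at h1
    exact (QuotientGroup.eq_one_iff _).1 h1

/-- The derived subgroup is generated by the two involution centralisers. -/
theorem derived_eq {w n : G} (M : Move h w n) : (commutator ↥(Cy b)).map (Cy b).subtype = HG h n := by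
  have hle : HG h n ≤ (commutator ↥(Cy b)).map (Cy b).subtype := by
    refine sup_le (fun c hc => ⟨_, Lz_le_derived h hc, rfl⟩) ?_
    rintro _ ⟨c, hc, rfl⟩
    exact ⟨⟨n, mem_Cy.2 M.nb⟩ * ⟨c, Lz_le h hc⟩ * ⟨n, mem_Cy.2 M.nb⟩⁻¹,
      (inferInstance : (commutator ↥(Cy b)).Normal).conj_mem _ (Lz_le_derived h hc) _, rfl⟩
  refine le_antisymm ?_ hle
  rintro _ ⟨x, hx, rfl⟩
  obtain ⟨i, l, hl, e⟩ := decomp h M x.2
  obtain ⟨l', hl', el'⟩ := hle hl
  have hbi : x * l'⁻¹ ∈ commutator ↥(Cy b) ⊓ (Subgroup.zpowers b).subgroupOf (Cy b) :=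
    Subgroup.mem_inf.2 ⟨mul_mem hx (inv_mem hl'), Subgroup.mem_subgroupOf.2 ⟨i, by
      show b ^ i = (x : G) * (l' : G)⁻¹
      rw [show (l' : G) = l from el', e, mul_inv_cancel_right]⟩⟩
  rw [derived_inf h, Subgroup.mem_bot, mul_inv_eq_one] at hbi
  show (x : G) ∈ HG h n
  rw [hbi, show (l' : G) = l from el']
  exact hl

/-- The layer of the centraliser. -/
theorem layer_Cy : Cfsg.layer ↥(Cy b) = commutator ↥(Cy b) := by
  obtain ⟨e, -⟩ := exists_derived_equiv h
  haveI := simple_M h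
  haveI : IsSimpleGroup ↥(commutator ↥(Cy b)) := e.isSimpleGroup
  have hperf : commutator ↥(commutator ↥(Cy b)) = ⊤ := by
    refine (IsSimpleGroup.eq_bot_or_eq_top_of_normal _ inferInstance).resolve_left fun e' => ?_
    refine not_comm_M h fun u v => ?_
    obtain ⟨u, rfl⟩ := e.surjective u
    obtain ⟨v, rfl⟩ := e.surjective v
    rw [← map_mul, ← map_mul]
    congr 1
    refine commutatorElement_eq_one_iff_mul_comm.1 ?_
    have hm : ⁅u, v⁆ ∈ commutator ↥(commutator ↥(Cy b)) :=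
      Subgroup.commutator_mem_commutator (Subgroup.mem_top _) (Subgroup.mem_top _)
    rwa [e', Subgroup.mem_bot] at hm
  have hqs : IsQuasisimple ↥(commutator ↥(Cy b)) := Layer.isQuasisimple_of_normal_cases ⟨hperf⟩ fun N hN => by
    rcases IsSimpleGroup.eq_bot_or_eq_top_of_normal N hN with r | r
    · exact Or.inr (r ▸ bot_le)
    · exact Or.inl r
  refine le_antisymm ?_ (Layer.component_le_layer ⟨(inferInstance : (commutator ↥(Cy b)).Normal).isSubnormal, hqs⟩)
  calc Cfsg.layer ↥(Cy b) = ⁅Cfsg.layer ↥(Cy b), Cfsg.layer ↥(Cy b)⁆ := Layer.layer_perfect.symm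
    _ ≤ _ := by rw [commutator_def]; exact Subgroup.commutator_mono le_top le_top

end Cfsg.Agent.CoOneFive
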